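import Cfsg.Agent.H597.Base
import Cfsg.Agent.S0135
import Cfsg.Agent.S0887
set_option linter.all false

/-!
# Divisibility of character degrees; intersections of normal complements
-/

set_option autoImplicit false

namespace Cfsg.Agent.H597.Degrees

open Cfsg
open Cfsg.Agent.Characters.Core Cfsg.Agent.Characters.Clifford Cfsg.Agent.Characters.Linear
open Cfsg.Agent.H597.Base
open scoped ComplexConjugate
open Subgroup

universe u
variable {G : Type u} [Group G]

theorem charDegree_dvd_card [Finite G] {χ : G → ℂ} (hχ : IsIrrCharacter G χ) :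
    charDegree χ ∣ Nat.card G := by
  obtain ⟨n, ρ, hρ, hc⟩ := hχ
  have h1 := Cfsg.Agent.S0135.result ρ
  have h2 : charDegree χ = Module.finrank ℂ (Fin n → ℂ) := by
    apply Blocks.Basic.charDegree_of_eq
    rw [← hc, Representation.char_one]
  rwa [h2]

/-- Divisibility for characters over a character of a normal subgroup. -/
theorem degree_over [Fintype G] (N : Subgroup G) [N.Normal] [Fintype N] {χ : G → ℂ}
    (hχ : IsIrrCharacter G χ) {θ : N → ℂ} (hθ : IsIrrCharacter N θ)
    (h : classInner (fun n : N => χ n) θ ≠ 0) :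
    ∃ c : ℕ, charDegree χ = charDegree θ * c ∧ c ∣ N.index := by
  obtain ⟨⟨c, hc⟩, h2⟩ := Cfsg.Agent.S0887.result N χ hχ θ hθ h (charDegree χ) (charDegree θ)
    (Blocks.Basic.irr_one_eq_charDegree hχ) (Blocks.Basic.irr_one_eq_charDegree hθ)
  refine ⟨c, hc, ?_⟩
  rwa [hc, Nat.mul_div_cancel_left _ (Blocks.Basic.charDegree_pos hθ)] at h2

/-- If the index of `N` is prime to `χ(1)` then `χ` restricts irreducibly to the normal
subgroup `N`. -/
theorem isIrr_restrict_of_coprime [Fintype G] (N : Subgroup G) [N.Normal] {χ : G → ℂ}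
    (hχ : IsIrrCharacter G χ) (h : Nat.Coprime N.index (charDegree χ)) :
    IsIrrCharacter N (fun n : N => χ n) := by
  classical
  have := Fintype.ofFinite N
  have hchar := isCharacter_restrict N (isIrr_isCharacter hχ)
  obtain ⟨θ, hθ, hθ'⟩ := exists_constituent hchar (isIrr_apply_one_ne_zero hχ)
  obtain ⟨c, hc, hc'⟩ := degree_over N hχ hθ hθ'
  have h1 : c = 1 := by
    have : c ∣ 1 := by rw [← h]; exact Nat.dvd_gcd hc' (hc ▸ dvd_mul_left _ _)
    exact Nat.dvd_one.1 this
  have h2 : (fun n : N => χ n) = θ := by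
    apply eq_of_degree_eq hchar hθ hθ'
    show χ 1 = θ 1
    rw [Blocks.Basic.irr_one_eq_charDegree hχ, Blocks.Basic.irr_one_eq_charDegree hθ, hc, h1,
      mul_one]
  rw [h2]; exact hθ

/-- A finite group all of whose irreducible characters have degree one is commutative. -/
theorem comm_of_forall_one [Finite G] (h : ∀ χ : G → ℂ, IsIrrCharacter G χ → charDegree χ = 1)
    (a b : G) : a * b = b * a := by
  apply CharDeep.PowerDegrees.comm_of_forall_linear
  intro χ
  rw [Blocks.Basic.irr_one_eq_charDegree χ.2, h χ χ.2, Nat.cast_one]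

/-- The intersection of normal `p`-complements for the primes `p` of a finite set `π` is a normal
subgroup of order prime to all `p ∈ π` with nilpotent quotient. -/
theorem exists_inter_complements [Finite G] (π : Finset ℕ) (hπ : ∀ p ∈ π, p.Prime)
    (h : ∀ p ∈ π, ∃ N : Subgroup G, N.Normal ∧ (Nat.card N).Coprime p ∧ ∃ k : ℕ, N.index = p ^ k) :
    ∃ (N : Subgroup G) (_ : N.Normal), (∀ p ∈ π, (Nat.card N).Coprime p) ∧
      Group.IsNilpotent (G ⧸ N) ∧ ∀ q : ℕ, q.Prime → q ∣ N.index → q ∈ π := by
  classical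
  choose! C hC1 hC2 hC3 using h
  let N : Subgroup G := ⨅ p : π, C p
  have hN : N.Normal := Subgroup.normal_iInf_normal fun p => hC1 p p.2
  refine ⟨N, hN, fun p hp => ?_, ?_⟩
  · exact Nat.Coprime.coprime_dvd_left (card_dvd_of_le (iInf_le (fun p : π => C p) ⟨p, hp⟩))
      (hC2 p hp)
  have hn : ∀ p : π, (C p).Normal := fun p => hC1 p p.2
  let φ : G →* (∀ p : π, G ⧸ C p) := MonoidHom.pi fun p => QuotientGroup.mk' (C p)
  have hker : φ.ker = N := by
    ext g
    rw [MonoidHom.mem_ker]
    constructor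
    · intro hg
      refine Subgroup.mem_iInf.2 fun p => ?_
      have := congrFun hg p
      exact (QuotientGroup.eq_one_iff g).1 this
    · intro hg
      funext p
      exact (QuotientGroup.eq_one_iff g).2 (Subgroup.mem_iInf.1 hg p)
  refine ⟨?_, ?_⟩
  · have hnil : ∀ p : π, Group.IsNilpotent (G ⧸ C p) := by
      intro p
      have := Fact.mk (hπ p p.2)
      obtain ⟨k, hk⟩ := hC3 p p.2
      exact (IsPGroup.of_card (p := (p : ℕ)) (n := k) (by rw [← index_eq_card]; exact hk)).isNilpotent
    have h1 : Group.IsNilpotent (∀ p : π, G ⧸ C p) := Group.isNilpotent_pi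
    have h2 : Group.IsNilpotent (G ⧸ φ.ker) := by
      refine Subgroup.isNilpotent_of_ker_le_center (QuotientGroup.kerLift φ) ?_
      rw [(MonoidHom.ker_eq_bot_iff _).2 (QuotientGroup.kerLift_injective φ)]
      exact bot_le
    exact Group.nilpotent_of_mulEquiv (QuotientGroup.quotientMulEquivOfEq hker)
  · intro q hq hqd
    have h1 : N.index ∣ Nat.card (∀ p : π, G ⧸ C p) := by
      rw [← hker, index_ker]
      exact card_subgroup_dvd_card _
    have h2 := hqd.trans h1
    rw [Nat.card_pi] at h2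
    obtain ⟨p, -, hp⟩ := (Prime.dvd_finsetProd_iff hq.prime _).1 h2
    rw [← index_eq_card] at hp
    obtain ⟨k, hk⟩ := hC3 p p.2
    rw [hk] at hp
    have h3 := (Nat.prime_dvd_prime_iff_eq hq (hπ p p.2)).1 (hq.dvd_of_dvd_pow hp)
    rw [h3]; exact p.2

end Cfsg.Agent.H597.Degrees
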