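import Cfsg.Agent.H597.Base
set_option linter.all false

/-!
# The argument of Broline and Garrison

If all irreducible constituents of `(χ_M)^G` have degree `χ(1)` then `χ` vanishes on the part of
`M` outside the core of `M`.
-/

set_option autoImplicit false

namespace Cfsg.Agent.H597.Broline

open Cfsg
open Cfsg.Agent.Characters.Core Cfsg.Agent.Characters.Clifford
open Cfsg.Agent.H597.Base
open scoped ComplexConjugate

universe u
variable {G : Type u} [Group G]

theorem indFun_apply_one [Fintype G] (M : Subgroup G) (θ : M → ℂ) :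
    indFun M θ 1 = (M.index : ℂ) * θ 1 := by
  rw [indFun_apply]
  have h : ∀ x : G, extendByZero M θ (x⁻¹ * 1 * x) = θ 1 := by
    intro x
    rw [mul_one, inv_mul_cancel, extendByZero_of_mem M θ (one_mem M)]
    rfl
  rw [Finset.sum_congr rfl fun x _ => h x, Finset.sum_const, nsmul_eq_mul, Finset.card_univ,
    ← Nat.card_eq_fintype_card, ← M.index_mul_card]
  have h0 : (Nat.card M : ℂ) ≠ 0 := Nat.cast_ne_zero.2 Nat.card_pos.ne'
  push_cast
  field_simp

/-- Let `χ ∈ Irr(G)` restrict irreducibly to `M`. If every irreducible character of `G` over `χ_M`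
has degree `χ(1)`, then `χ` vanishes on `M` outside the core of `M`. -/
theorem mem_normalCore_of_forall [Fintype G] {χ : G → ℂ} (hχ : IsIrrCharacter G χ)
    (M : Subgroup G) [Fintype M] (hirr : IsIrrCharacter M (fun m : M => χ m))
    (h : ∀ ψ : G → ℂ, IsIrrCharacter G ψ →
      classInner (fun m : M => ψ m) (fun m : M => χ m) ≠ 0 → ψ 1 = χ 1)
    {m : G} (hm : m ∈ M) (hne : χ m ≠ 0) : m ∈ M.normalCore := by
  classical
  have := finite_irr (G := G)
  have := Fintype.ofFinite (IrrCharacter G)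
  set θ : M → ℂ := fun m : M => χ m with hθ
  obtain ⟨c, hc, hc'⟩ := CharDeep.CliffordCorr.exists_nat_coeffs_indFun M (isIrr_isCharacter hirr)
  have hres : ∀ η : IrrCharacter G, c η ≠ 0 → ∀ x ∈ M, (η : G → ℂ) x = χ x := by
    intro η hη x hx
    have h1 : classInner (fun m : M => (η : G → ℂ) m) θ ≠ 0 := by
      rw [← classInner_conj_symm, hc' η]
      simpa using hη
    have h2 := eq_of_degree_eq (isCharacter_restrict M (isIrr_isCharacter η.2)) hirr h1
      (h η η.2 h1)
    exact congrFun h2 ⟨x, hx⟩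
  have hval : ∀ x ∈ M, indFun M θ x = ((∑ η : IrrCharacter G, c η : ℕ) : ℂ) * χ x := by
    intro x hx
    rw [hc, Finset.sum_apply]
    push_cast
    rw [Finset.sum_mul]
    refine Finset.sum_congr rfl fun η _ => ?_
    rw [Pi.smul_apply, smul_eq_mul]
    by_cases h0 : c η = 0
    · rw [h0]; simp
    · rw [hres η h0 x hx]
  have h1 := hval 1 (one_mem M)
  rw [indFun_apply_one] at h1
  have h2 : (M.index : ℂ) = ((∑ η : IrrCharacter G, c η : ℕ) : ℂ) :=
    mul_right_cancel₀ (isIrr_apply_one_ne_zero hχ) h1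
  have h3 := hval m hm
  rw [← h2, indFun_apply] at h3
  -- evaluate the induced function
  have h4 : ∀ x : G, extendByZero M θ (x⁻¹ * m * x) = if x⁻¹ * m * x ∈ M then χ m else 0 := by
    intro x
    split_ifs with hx
    · rw [extendByZero_of_mem M θ hx]
      show χ (x⁻¹ * m * x) = χ m
      have := isIrr_isClassFunction hχ m x⁻¹
      rwa [inv_inv] at this
    · rw [extendByZero_of_notMem M θ hx]
  rw [Finset.sum_congr rfl fun x _ => h4 x, ← Finset.sum_filter, Finset.sum_const,
    nsmul_eq_mul] at h3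
  have h0 : (Nat.card M : ℂ) ≠ 0 := Nat.cast_ne_zero.2 Nat.card_pos.ne'
  have h5 : (((Finset.univ.filter fun x : G => x⁻¹ * m * x ∈ M).card : ℕ) : ℂ) =
      ((Nat.card G : ℕ) : ℂ) := by
    rw [← M.index_mul_card]
    push_cast
    refine mul_right_cancel₀ hne ?_
    have h6 : (((Finset.univ.filter fun x : G => x⁻¹ * m * x ∈ M).card : ℕ) : ℂ) * χ m =
        (Nat.card M : ℂ) * ((Nat.card M : ℂ)⁻¹ *
          ((((Finset.univ.filter fun x : G => x⁻¹ * m * x ∈ M).card : ℕ) : ℂ) * χ m)) := by
      rw [mul_inv_cancel_left₀ h0]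
    rw [h6, h3]
    ring
  have h6 : (Finset.univ.filter fun x : G => x⁻¹ * m * x ∈ M) = Finset.univ := by
    apply Finset.eq_univ_of_card
    rw [← Nat.card_eq_fintype_card]
    exact_mod_cast h5
  intro b
  have h7 : b⁻¹ ∈ (Finset.univ.filter fun x : G => x⁻¹ * m * x ∈ M) := by
    rw [h6]; exact Finset.mem_univ _
  have h8 := (Finset.mem_filter.1 h7).2
  rwa [inv_inv] at h8

/-- The heart of the argument: for a maximal subgroup `M` supplementing the kernel `K` of `χ`, if
`χ` does not vanish on `M` outside the core of `M`, some irreducible `ψ` has larger degree and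
smaller kernel. -/
theorem exists_of_maximal [Fintype G] {χ : G → ℂ} (hχ : IsIrrCharacter G χ)
    (K : Subgroup G) (hK : ∀ g, g ∈ K ↔ χ g = χ 1) [K.Normal] (M : Subgroup G) (hM : IsCoatom M)
    (hKM : K ⊔ M = ⊤) {m : G} (hm : m ∈ M) (hne : χ m ≠ 0) (hcore : m ∉ M.normalCore) :
    ∃ ψ : IrrCharacter G, charDegree χ < charDegree (ψ : G → ℂ) ∧
      ∃ L : Subgroup G, (∀ g : G, g ∈ L ↔ (ψ : G → ℂ) g = (ψ : G → ℂ) 1) ∧ L < K := by
  classical
  have hfac : ∀ (L : Subgroup G) [L.Normal], L ⊔ M = ⊤ →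
      ∀ g : G, ∃ k ∈ L, ∃ m ∈ M, g = k * m := by
    intro L _ hL g
    have hg : g ∈ L ⊔ M := hL ▸ Subgroup.mem_top g
    obtain ⟨k, hk, m, hm, rfl⟩ := Subgroup.mem_sup_of_normal_left.1 hg
    exact ⟨k, hk, m, hm, rfl⟩
  have hirr : IsIrrCharacter M (fun m : M => χ m) :=
    isIrr_restrict_of_supplement hχ K M (fun k hk => (hK k).1 hk) (hfac K hKM)
  by_contra hcon
  apply hcore
  refine mem_normalCore_of_forall hχ M hirr (fun ψ hψ hin => ?_) hm hne
  by_contra hdeg
  apply hcon
  have hψM := isCharacter_restrict M (isIrr_isCharacter hψ)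
  have hle : charDegree χ ≤ charDegree ψ := by
    have h1 := degree_le_of_constituent hψM hirr (n := charDegree ψ)
      (Blocks.Basic.irr_one_eq_charDegree hψ) hin
    have h2 : charDegree (fun m : M => χ m) = charDegree χ := rfl
    rwa [h2] at h1
  have hne' : charDegree χ ≠ charDegree ψ := by
    intro h
    apply hdeg
    rw [Blocks.Basic.irr_one_eq_charDegree hψ, Blocks.Basic.irr_one_eq_charDegree hχ, h]
  refine ⟨⟨ψ, hψ⟩, lt_of_le_of_ne hle hne', ker (isIrr_isCharacter hψ), fun g => Iff.rfl, ?_⟩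
  set L := ker (isIrr_isCharacter hψ) with hL
  have hLM : L ≤ M := by
    by_contra hnle
    have htop : L ⊔ M = ⊤ := by
      apply hM.2
      exact lt_of_le_of_ne le_sup_right fun h => hnle (h ▸ le_sup_left)
    have hirr' : IsIrrCharacter M (fun m : M => ψ m) :=
      isIrr_restrict_of_supplement hψ L M (fun k hk => hk) (hfac L htop)
    have : (fun m : M => ψ m) = fun m : M => χ m := by
      by_contra hne
      exact hin (classInner_irr_ne hirr' hirr hne)
    exact hdeg (congrFun this 1)
  have hLK : L ≤ K := by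
    intro g hg
    rw [hK]
    have := ker_of_constituent hψM hirr hin (a := ⟨g, hLM hg⟩) hg
    exact this
  refine lt_of_le_of_ne hLK fun h => ?_
  rw [h] at hLM
  exact hM.1 (by rw [← hKM]; exact (sup_eq_right.2 hLM).symm)

end Cfsg.Agent.H597.Broline
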