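import Cfsg.Agent.H597.Base
import Cfsg.Agent.H597.Broline
import Cfsg.Agent.S0858
import Cfsg.Agent.S0169
import Cfsg.Agent.S0146
set_option linter.all false

/-!
# Monomial characters and the argument of Taketa

* `not_isSquare_relIndex` : chief factors of subgroups of a nilpotent group have prime order.
* `exists_linear_of_abelian_nilpotent` : if `N` is an abelian normal subgroup with `G/N` nilpotent,
  every irreducible character of `G` is induced from a linear character.
* `commutator_le_ker` : Taketa's argument.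
-/

set_option autoImplicit false

namespace Cfsg.Agent.H597.Taketa

open Cfsg
open Cfsg.Agent.Characters.Core Cfsg.Agent.Characters.Clifford Cfsg.Agent.Characters.Linear
open Cfsg.Agent.H597.Base Cfsg.Agent.H597.Broline
open scoped ComplexConjugate
open Subgroup

universe u
variable {G : Type u} [Group G]

/-- A chief factor of a subgroup `H` above `N`, `G / N` nilpotent, is central: `[H, K] ≤ L`. -/
theorem comm_mem_of_nilpotent (N : Subgroup G) [N.Normal]
    (hnil : Group.IsNilpotent (G ⧸ N)) (H K L : Subgroup G) (hNL : N ≤ L) (hLK : L < K)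
    (_hKH : K ≤ H) (hK : ∀ h ∈ H, ∀ k ∈ K, h * k * h⁻¹ ∈ K) (hL : ∀ h ∈ H, ∀ l ∈ L, h * l * h⁻¹ ∈ L)
    (hmin : ∀ M : Subgroup G, L ≤ M → M ≤ K → (∀ h ∈ H, ∀ m ∈ M, h * m * h⁻¹ ∈ M) → M = L ∨ M = K) :
    ∀ h ∈ H, ∀ k ∈ K, h * k * h⁻¹ * k⁻¹ ∈ L := by
  classical
  obtain ⟨n, hn⟩ := (Subgroup.nilpotent_iff_lowerCentralSeries (G := G ⧸ N)).1 hnil
  let Γ : ℕ → Subgroup G := fun i => ((⊤ : Subgroup (G ⧸ N)).lowerCentralSeries i).comap
    (QuotientGroup.mk' N)
  have hΓ0 : Γ 0 = ⊤ := comap_top _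
  have hΓn : Γ n = N := by
    show ((⊤ : Subgroup (G ⧸ N)).lowerCentralSeries n).comap (QuotientGroup.mk' N) = N
    rw [hn, MonoidHom.comap_bot, QuotientGroup.ker_mk']
  have hΓnormal : ∀ i, (Γ i).Normal := fun i => inferInstance
  have hΓcomm : ∀ i, ∀ h c : G, c ∈ Γ i → h * c * h⁻¹ * c⁻¹ ∈ Γ (i + 1) := by
    intro i h c hc
    show QuotientGroup.mk' N (h * c * h⁻¹ * c⁻¹) ∈ (⊤ : Subgroup (G ⧸ N)).lowerCentralSeries (i + 1)
    rw [Subgroup.lowerCentralSeries_succ, commutator_comm]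
    have := commutator_mem_commutator (mem_top (QuotientGroup.mk' N h)) hc
    simpa [commutatorElement_def] using this
  -- the last term with `K ≤ L Γ i`
  have hex : ∃ i, K ≤ L ⊔ Γ i ∧ ¬ K ≤ L ⊔ Γ (i + 1) := by
    by_contra hcon
    push Not at hcon
    have hall : ∀ i, K ≤ L ⊔ Γ i := by
      intro i
      induction i with
      | zero => rw [hΓ0]; exact le_top.trans le_sup_right
      | succ i ih => exact hcon i ih
    have := hall n
    rw [hΓn, sup_eq_left.2 hNL] at this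
    exact absurd this (not_le_of_gt hLK)
  obtain ⟨i, hi, hi'⟩ := hex
  have hM : K ⊓ (L ⊔ Γ (i + 1)) = L := by
    have h1 : L ≤ K ⊓ (L ⊔ Γ (i + 1)) := le_inf hLK.le le_sup_left
    have hinv : ∀ h ∈ H, ∀ m ∈ K ⊓ (L ⊔ Γ (i + 1)), h * m * h⁻¹ ∈ K ⊓ (L ⊔ Γ (i + 1)) := by
      rintro h hh m ⟨hm1, hm2⟩
      refine ⟨hK h hh m hm1, ?_⟩
      obtain ⟨l, hl, c, hc, rfl⟩ := mem_sup_of_normal_right.1 hm2
      have : h * (l * c) * h⁻¹ = (h * l * h⁻¹) * (h * c * h⁻¹) := by group
      rw [this]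
      exact mul_mem (mem_sup_left (hL h hh l hl)) (mem_sup_right ((hΓnormal _).conj_mem c hc h))
    rcases hmin (K ⊓ (L ⊔ Γ (i + 1))) h1 inf_le_left hinv with h2 | h2
    · exact h2
    · exact absurd (h2 ▸ inf_le_right) hi'
  intro h hh k hk
  rw [← hM]
  refine ⟨K.mul_mem (hK h hh k hk) (K.inv_mem hk), ?_⟩
  obtain ⟨l, hl, c, hc, rfl⟩ := mem_sup_of_normal_right.1 (hi hk)
  have : h * (l * c) * h⁻¹ * (l * c)⁻¹ =
      (h * l * h⁻¹) * ((h * c * h⁻¹ * c⁻¹)) * l⁻¹ := by group
  rw [this]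
  exact mul_mem (mul_mem (mem_sup_left (hL h hh l hl)) (mem_sup_right (hΓcomm i h c hc)))
    (mem_sup_left (inv_mem hl))

/-- Chief factors above `N` of subgroups of `G`, `G / N` nilpotent, have non-square order. -/
theorem not_isSquare_relIndex [Finite G] (N : Subgroup G) [N.Normal]
    (hnil : Group.IsNilpotent (G ⧸ N)) (H K L : Subgroup G) (hNL : N ≤ L) (hLK : L < K)
    (hKH : K ≤ H) (hK : ∀ h ∈ H, ∀ k ∈ K, h * k * h⁻¹ ∈ K) (hL : ∀ h ∈ H, ∀ l ∈ L, h * l * h⁻¹ ∈ L)
    (hmin : ∀ M : Subgroup G, L ≤ M → M ≤ K → (∀ h ∈ H, ∀ m ∈ M, h * m * h⁻¹ ∈ M) → M = L ∨ M = K) :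
    ¬ IsSquare (L.relIndex K) := by
  classical
  have hcomm := comm_mem_of_nilpotent N hnil H K L hNL hLK hKH hK hL hmin
  have hLn : (L.subgroupOf K).Normal := by
    constructor
    intro l hl k
    exact hL k (hKH k.2) l hl
  have hidx : L.relIndex K ≠ 1 := fun h => absurd (relIndex_eq_one.1 h) (not_le_of_gt hLK)
  obtain ⟨p, hp, hpd⟩ := Nat.exists_prime_and_dvd hidx
  have := Fact.mk hp
  have hidx' : L.relIndex K = Nat.card (K ⧸ L.subgroupOf K) := (L.subgroupOf K).index_eq_card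
  rw [hidx'] at hpd
  obtain ⟨y, hy⟩ := exists_prime_orderOf_dvd_card' p hpd
  obtain ⟨x, rfl⟩ := QuotientGroup.mk_surjective y
  have hxL : (x : G) ∉ L := by
    intro hx
    have : (QuotientGroup.mk x : K ⧸ L.subgroupOf K) = 1 := (QuotientGroup.eq_one_iff x).2 hx
    rw [this, orderOf_one] at hy
    exact hp.one_lt.ne hy
  have hMK : L ⊔ zpowers (x : G) = K := by
    have hinv : ∀ h ∈ H, ∀ m ∈ L ⊔ zpowers (x : G), h * m * h⁻¹ ∈ L ⊔ zpowers (x : G) := by
      intro h hh m hm
      have h2 : (L ⊔ zpowers (x : G)) ≤ (L ⊔ zpowers (x : G)).comap (MulAut.conj h).toMonoidHom := by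
        refine sup_le (fun l hl => mem_sup_left (hL h hh l hl)) ?_
        rw [zpowers_le]
        show h * (x : G) * h⁻¹ ∈ L ⊔ zpowers (x : G)
        have h3 : h * (x : G) * h⁻¹ = (h * (x : G) * h⁻¹ * (x : G)⁻¹) * (x : G) := by group
        rw [h3]
        exact mul_mem (mem_sup_left (hcomm h hh x x.2)) (mem_sup_right (mem_zpowers _))
      exact h2 hm
    rcases hmin (L ⊔ zpowers (x : G)) le_sup_left
      (sup_le hLK.le (by rw [zpowers_le]; exact x.2)) hinv with h1 | h1
    · exact absurd (h1 ▸ (mem_sup_right (mem_zpowers (x : G)))) hxL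
    · exact h1
  have htop : zpowers (QuotientGroup.mk x : K ⧸ L.subgroupOf K) = ⊤ := by
    rw [eq_top_iff]
    intro z _
    obtain ⟨k, rfl⟩ := QuotientGroup.mk_surjective z
    have hk : (L.subgroupOf K) ⊔ zpowers x = ⊤ := by
      rw [eq_top_iff]
      intro w _
      have hw : (w : G) ∈ ((L.subgroupOf K) ⊔ zpowers x).map K.subtype := by
        rw [Subgroup.map_sup, subgroupOf_map_subtype, inf_eq_left.2 hLK.le, MonoidHom.map_zpowers]
        exact hMK.symm ▸ w.2
      obtain ⟨w', hw', hww⟩ := hw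
      rwa [show w' = w from Subtype.ext hww] at hw'
    obtain ⟨l, hl, c, hc, rfl⟩ := mem_sup_of_normal_left.1 (hk ▸ mem_top k : k ∈ _)
    rw [QuotientGroup.mk_mul, (QuotientGroup.eq_one_iff l).2 hl, one_mul]
    obtain ⟨j, rfl⟩ := mem_zpowers_iff.1 hc
    rw [QuotientGroup.mk_zpow]
    exact zpow_mem (mem_zpowers _) j
  rw [hidx', ← Nat.card_congr (Subgroup.topEquiv (G := K ⧸ L.subgroupOf K)).toEquiv, ← htop,
    Nat.card_zpowers, hy]
  exact hp.prime.not_isSquare

/-- Irreducible characters of commutative groups have degree one. -/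
theorem irr_apply_one_of_comm [Finite G] {χ : G → ℂ} (hχ : IsIrrCharacter G χ)
    (hab : ∀ a b : G, a * b = b * a) : χ 1 = 1 := by
  obtain ⟨n, ρ, hρ, hc⟩ := hχ
  have h1 := Cfsg.Agent.S0169.result ρ (⊤ : Subgroup G) (fun a _ b _ => hab a b)
  rw [index_top, Nat.dvd_one] at h1
  rw [← hc, Representation.char_one, h1, Nat.cast_one]

/-- If `N` is an abelian normal subgroup with nilpotent quotient, every irreducible character is
induced from a linear character of a subgroup containing `N`. -/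
theorem exists_linear_of_abelian_nilpotent [Fintype G] (N : Subgroup G) [N.Normal]
    (hab : ∀ a ∈ N, ∀ b ∈ N, a * b = b * a) (hnil : Group.IsNilpotent (G ⧸ N))
    {χ : G → ℂ} (hχ : IsIrrCharacter G χ) :
    ∃ (H : Subgroup G) (f : H →* ℂˣ), N ≤ H ∧ indFun H (fun h => (f h : ℂ)) = χ := by
  classical
  have hsol : Group.IsSolvable (G ⧸ N) := by
    have := hnil
    infer_instance
  obtain ⟨H, hNH, ψ, hψ, hind, hres⟩ := Cfsg.Agent.S0858.result N hsol
    (fun H K L h1 h2 h3 h4 h5 h6 => not_isSquare_relIndex N hnil H K L h1 h2 h3 h4 h5 h6) χ hχ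
  have h1 : ψ 1 = 1 := by
    have h2 := irr_apply_one_of_comm hres (fun a b => Subtype.ext (hab a a.2 b b.2))
    exact h2
  obtain ⟨f, hf⟩ := exists_hom_of_isIrrCharacter hψ h1
  exact ⟨H, f, hNH, by rw [← hind, hf]⟩

/-- The value of the permutation character at an element fixing all cosets. -/
theorem mem_of_indFun_one_eq [Fintype G] (H : Subgroup G) {k : G}
    (h : indFun H (fun _ => (1 : ℂ)) k = indFun H (fun _ => (1 : ℂ)) 1) : k ∈ H := by
  classical
  rw [indFun_apply_one, indFun_apply] at h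
  have h4 : ∀ x : G, extendByZero H (fun _ => (1 : ℂ)) (x⁻¹ * k * x) =
      if x⁻¹ * k * x ∈ H then 1 else 0 := by
    intro x
    split_ifs with hx
    · rw [extendByZero_of_mem H _ hx]
    · rw [extendByZero_of_notMem H _ hx]
  rw [Finset.sum_congr rfl fun x _ => h4 x, ← Finset.sum_filter, Finset.sum_const,
    nsmul_eq_mul, mul_one, mul_one] at h
  have h0 : (Nat.card H : ℂ) ≠ 0 := Nat.cast_ne_zero.2 Nat.card_pos.ne'
  have h5 : (((Finset.univ.filter fun x : G => x⁻¹ * k * x ∈ H).card : ℕ) : ℂ) =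
      ((Nat.card G : ℕ) : ℂ) := by
    rw [← H.index_mul_card]
    push_cast
    rw [← h]
    field_simp
  have h6 : (Finset.univ.filter fun x : G => x⁻¹ * k * x ∈ H) = Finset.univ := by
    apply Finset.eq_univ_of_card
    rw [← Nat.card_eq_fintype_card]
    exact_mod_cast h5
  have h7 : (1 : G) ∈ (Finset.univ.filter fun x : G => x⁻¹ * k * x ∈ H) := by
    rw [h6]; exact Finset.mem_univ _
  have h8 := (Finset.mem_filter.1 h7).2
  simpa using h8

/-- A linear character of `H` is trivial on `⁅K, K⁆` for `K ≤ H`. -/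
theorem hom_eq_one_of_commutator {H K : Subgroup G} (f : H →* ℂˣ) (hKH : K ≤ H) {y : G}
    (hy : y ∈ ⁅K, K⁆) (hyH : y ∈ H) : f ⟨y, hyH⟩ = 1 := by
  have h : ⁅K, K⁆ ≤ f.ker.map H.subtype := by
    rw [commutator_le]
    intro a ha b hb
    refine ⟨(⟨a, hKH ha⟩ : H) * (⟨b, hKH hb⟩ : H) * (⟨a, hKH ha⟩ : H)⁻¹ * (⟨b, hKH hb⟩ : H)⁻¹,
      ?_, rfl⟩
    show f ((⟨a, hKH ha⟩ : H) * (⟨b, hKH hb⟩ : H) * (⟨a, hKH ha⟩ : H)⁻¹ *
      (⟨b, hKH hb⟩ : H)⁻¹) = 1
    rw [map_mul, map_mul, map_mul, map_inv, map_inv, mul_comm (f _) (f ⟨b, _⟩)]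
    group
  obtain ⟨z, hz, hzy⟩ := h hy
  have : z = ⟨y, hyH⟩ := Subtype.ext hzy
  exact this ▸ hz

/-- **Taketa's argument.** Let `χ = λ^G` be irreducible, `λ` linear, `χ(1) ≠ 1`. If the normal
subgroup `K` lies in the kernel of every irreducible character of degree less than `χ(1)`, then
`⁅K, K⁆` lies in the kernel of `χ`. -/
theorem commutator_le_ker [Fintype G] {χ : G → ℂ} (H : Subgroup G)
    (f : H →* ℂˣ) (hind : indFun H (fun h => (f h : ℂ)) = χ) (hdeg : charDegree χ ≠ 1)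
    (K : Subgroup G) [K.Normal]
    (hK : ∀ ψ : G → ℂ, IsIrrCharacter G ψ → charDegree ψ < charDegree χ → ∀ k ∈ K, ψ k = ψ 1) :
    ∀ k ∈ ⁅K, K⁆, χ k = χ 1 := by
  classical
  have := finite_irr (G := G)
  have := Fintype.ofFinite (IrrCharacter G)
  have hχ1 : charDegree χ = H.index := by
    apply Blocks.Basic.charDegree_of_eq
    rw [← hind, indFun_apply_one, map_one]
    simp
  have h1char : IsCharacter H (fun _ => (1 : ℂ)) := isCharacter_one
  obtain ⟨c, hc, hc'⟩ := CharDeep.CliffordCorr.exists_nat_coeffs_indFun H h1char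
  have hπ : IsCharacter G (indFun H fun _ => (1 : ℂ)) :=
    CharDeep.CliffordCorr.isCharacter_indFun H h1char
  have hπ1 : indFun H (fun _ => (1 : ℂ)) 1 = ((H.index : ℕ) : ℂ) := by
    rw [indFun_apply_one, mul_one]
  have hone : classInner (indFun H fun _ => (1 : ℂ)) (1 : G → ℂ) = 1 := by
    rw [Cfsg.Agent.S0146.result H _ _ (isIrr_isClassFunction isIrr_one)]
    exact classInner_irr_self isIrr_one
  have hlt : ∀ η : IrrCharacter G, c η ≠ 0 → charDegree (η : G → ℂ) < charDegree χ := by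
    intro η hη
    have h2 : classInner (indFun H fun _ => (1 : ℂ)) (η : G → ℂ) ≠ 0 := by
      rw [Cfsg.Agent.S0146.result H _ _ (isIrr_isClassFunction η.2), hc']
      exact_mod_cast hη
    have h3 := degree_le_of_constituent hπ η.2 hπ1 h2
    rw [hχ1]
    refine lt_of_le_of_ne h3 fun heq => ?_
    have h4 := eq_of_degree_eq hπ η.2 h2 (by
      rw [hπ1, Blocks.Basic.irr_one_eq_charDegree η.2, heq])
    rw [h4] at hone
    have h5 : (η : G → ℂ) = 1 := by
      by_contra hne
      rw [classInner_irr_ne η.2 isIrr_one hne] at hone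
      exact zero_ne_one hone
    apply hdeg
    rw [hχ1, ← heq, h5]
    exact Blocks.Basic.charDegree_of_eq (by simp)
  have hKH : K ≤ H := by
    intro k hk
    apply mem_of_indFun_one_eq
    rw [apply_eq_sum hc k, apply_eq_sum hc 1]
    refine Finset.sum_congr rfl fun η _ => ?_
    by_cases h0 : c η = 0
    · rw [h0]; simp
    · rw [hK η η.2 (hlt η h0) k hk]
  intro k hk
  rw [← hind, indFun_apply_one, indFun_apply, map_one]
  have h4 : ∀ x : G, extendByZero H (fun h => (f h : ℂ)) (x⁻¹ * k * x) = 1 := by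
    intro x
    have hx : x⁻¹ * k * x ∈ ⁅K, K⁆ := by
      have hn : (⁅K, K⁆ : Subgroup G).Normal := inferInstance
      have := hn.conj_mem k hk x⁻¹
      rwa [inv_inv] at this
    have hxH : x⁻¹ * k * x ∈ H := (commutator_le_left K K |>.trans hKH) hx
    rw [extendByZero_of_mem H _ hxH, hom_eq_one_of_commutator f hKH hx hxH]
    simp
  rw [Finset.sum_congr rfl fun x _ => h4 x, Finset.sum_const, nsmul_eq_mul, Finset.card_univ,
    ← Nat.card_eq_fintype_card, ← H.index_mul_card]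
  have h0 : (Nat.card H : ℂ) ≠ 0 := Nat.cast_ne_zero.2 Nat.card_pos.ne'
  push_cast
  field_simp

/-- Linear characters are trivial on the commutator subgroup. -/
theorem commutator_le_ker_of_linear [Finite G] {χ : G → ℂ} (hχ : IsIrrCharacter G χ)
    (h1 : charDegree χ = 1) : ∀ k ∈ commutator G, χ k = χ 1 := by
  obtain ⟨f, rfl⟩ := exists_hom_of_isIrrCharacter hχ
    (by rw [Blocks.Basic.irr_one_eq_charDegree hχ, h1, Nat.cast_one])
  intro k hk
  have : f k = 1 := Abelianization.commutator_subset_ker f hk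
  show ((f k : ℂˣ) : ℂ) = ((f 1 : ℂˣ) : ℂ)
  rw [this, map_one]

/-- Taketa's theorem: if all irreducible characters of `G` are induced from linear characters, then
`derivedSeries G i` lies in the kernel of every irreducible character `χ` such that there are at
most `i` irreducible character degrees up to `χ(1)`. -/
theorem derivedSeries_le_ker [Fintype G]
    (hM : ∀ χ : G → ℂ, IsIrrCharacter G χ → ∃ (H : Subgroup G) (f : H →* ℂˣ),
      indFun H (fun h => (f h : ℂ)) = χ) :
    ∀ (i : ℕ) (χ : G → ℂ), IsIrrCharacter G χ →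
      {d : ℕ | d ≤ charDegree χ ∧ ∃ ψ : IrrCharacter G, charDegree (ψ : G → ℂ) = d}.ncard ≤ i →
      ∀ k ∈ derivedSeries G i, χ k = χ 1 := by
  classical
  have hfin : ∀ n : ℕ, {d : ℕ | d ≤ n ∧ ∃ ψ : IrrCharacter G, charDegree (ψ : G → ℂ) = d}.Finite :=
    fun n => (Set.finite_Iic n).subset fun d hd => hd.1
  intro i
  induction i with
  | zero =>
    intro χ hχ hcard
    have h1 : charDegree χ ∈ {d : ℕ | d ≤ charDegree χ ∧
        ∃ ψ : IrrCharacter G, charDegree (ψ : G → ℂ) = d} := ⟨le_rfl, ⟨χ, hχ⟩, rfl⟩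
    have h2 := (Set.ncard_pos (hfin _)).2 ⟨_, h1⟩
    omega
  | succ i ih =>
    intro χ hχ hcard k hk
    by_cases h1 : charDegree χ = 1
    · refine commutator_le_ker_of_linear hχ h1 k ?_
      have : derivedSeries G (i + 1) ≤ commutator G := by
        rw [commutator_def]
        rw [derivedSeries_succ]
        exact commutator_mono le_top le_top
      exact this hk
    · obtain ⟨H, f, hind⟩ := hM χ hχ
      refine commutator_le_ker H f hind h1 (derivedSeries G i) ?_ k
        (by rwa [← derivedSeries_succ])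
      intro ψ hψ hlt
      apply ih ψ hψ
      have hsub : {d : ℕ | d ≤ charDegree ψ ∧ ∃ ψ : IrrCharacter G, charDegree (ψ : G → ℂ) = d} ⊂
          {d : ℕ | d ≤ charDegree χ ∧ ∃ ψ : IrrCharacter G, charDegree (ψ : G → ℂ) = d} := by
        refine ⟨fun d hd => ⟨hd.1.trans hlt.le, hd.2⟩, fun hcon => ?_⟩
        have := hcon (show charDegree χ ∈ _ from ⟨le_rfl, ⟨χ, hχ⟩, rfl⟩)
        exact absurd this.1 (not_le.2 hlt)
      have := Set.ncard_lt_ncard hsub (hfin _)
      omega

/-- **Taketa's theorem.** -/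
theorem derivedSeries_eq_bot [Fintype G]
    (hM : ∀ χ : G → ℂ, IsIrrCharacter G χ → ∃ (H : Subgroup G) (f : H →* ℂˣ),
      indFun H (fun h => (f h : ℂ)) = χ) {i : ℕ}
    (hi : Nat.card {n : ℕ // ∃ χ : IrrCharacter G, charDegree (χ : G → ℂ) = n} ≤ i) :
    derivedSeries G i = ⊥ := by
  classical
  rw [eq_bot_iff]
  intro k hk
  rw [Subgroup.mem_bot]
  apply eq_one_of_forall
  intro χ hχ
  refine derivedSeries_le_ker hM i χ hχ ?_ k hk
  refine le_trans ?_ hi
  have hfin : {n : ℕ | ∃ χ : IrrCharacter G, charDegree (χ : G → ℂ) = n}.Finite := by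
    have := finite_irr (G := G)
    have h : {n : ℕ | ∃ χ : IrrCharacter G, charDegree (χ : G → ℂ) = n} =
      Set.range fun χ : IrrCharacter G => charDegree (χ : G → ℂ) := rfl
    rw [h]
    exact Set.finite_range _
  exact Set.ncard_le_ncard (fun d hd => hd.2) hfin

end Cfsg.Agent.H597.Taketa
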