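import Mathlib
import Cfsg.Prelude.Def_Local
import Cfsg.Prelude.Def_ChevE8
import Cfsg.Agent.ChevalleyStructure.Good
import Cfsg.Agent.Prune
set_option linter.all false

-- part: H942/L7/Iface
section
set_option linter.all false
open scoped Cfsg.Agent.FastGrp

/-!
# `PSL₂(7)` and `PGL₂(7)` as permutation groups of the projective line (S5920): the interface

`P168 = PSL₂(7)` and `P336 = PGL₂(7)` act on `Fin 8 = P¹(F₇)`, `7 = ∞`.
`fixS ρ Y` : the vectors fixed by all elements of the group lying in the set `Y` of permutations.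
-/

set_option autoImplicit false

namespace Cfsg.Agent.H942.L7

universe u

open Equiv

/-- `z ↦ z + 1` -/
def nn : Perm (Fin 8) := ⟨![1, 2, 3, 4, 5, 6, 0, 7], ![6, 0, 1, 2, 3, 4, 5, 7], by decide, by decide⟩

/-- `z ↦ 3 z`, of order 6 -/
def g6 : Perm (Fin 8) := ⟨![0, 3, 6, 2, 5, 1, 4, 7], ![0, 5, 3, 1, 6, 4, 2, 7], by decide, by decide⟩

/-- `z ↦ -1/z` -/
def ww : Perm (Fin 8) := ⟨![7, 6, 3, 2, 5, 4, 1, 0], ![7, 6, 3, 2, 5, 4, 1, 0], by decide, by decide⟩

/-- `PSL₂(7)` -/
def P168 : Subgroup (Perm (Fin 8)) := Subgroup.closure {nn, g6 ^ 2, ww}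

/-- `PGL₂(7)` -/
def P336 : Subgroup (Perm (Fin 8)) := Subgroup.closure {nn, g6, ww}

/-- elements of the two four-groups `V4a`, `V4b` and of the dihedral groups containing them -/
def za : Perm (Fin 8) := ⟨![1, 0, 4, 7, 2, 6, 5, 3], ![1, 0, 4, 7, 2, 6, 5, 3], by decide, by decide⟩
def za' : Perm (Fin 8) := ⟨![2, 4, 0, 5, 1, 3, 7, 6], ![2, 4, 0, 5, 1, 3, 7, 6], by decide, by decide⟩
def ta : Perm (Fin 8) := ⟨![3, 7, 6, 0, 5, 4, 2, 1], ![3, 7, 6, 0, 5, 4, 2, 1], by decide, by decide⟩
def zb : Perm (Fin 8) := ⟨![3, 4, 7, 0, 1, 6, 5, 2], ![3, 4, 7, 0, 1, 6, 5, 2], by decide, by decide⟩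
def zb' : Perm (Fin 8) := ⟨![5, 7, 4, 6, 2, 0, 3, 1], ![5, 7, 4, 6, 2, 0, 3, 1], by decide, by decide⟩
def tb : Perm (Fin 8) := ⟨![1, 0, 3, 2, 6, 7, 4, 5], ![1, 0, 3, 2, 6, 7, 4, 5], by decide, by decide⟩

/-- four-group, normal in the `S₄` generated by it, `ta` and `g6 ^ 2` -/
def V4a : Set (Perm (Fin 8)) := {1, za, za', za * za'}
def V4b : Set (Perm (Fin 8)) := {1, zb, zb', zb * zb'}
/-- dihedral groups of order 8 -/
def D8a : Set (Perm (Fin 8)) := V4a ∪ {g | ∃ z ∈ V4a, g = z * ta}
def D8b : Set (Perm (Fin 8)) := V4b ∪ {g | ∃ z ∈ V4b, g = z * tb}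
/-- the group of order 7 -/
def U7 : Set (Perm (Fin 8)) := {g | ∃ i : ℕ, g = nn ^ i}
/-- the dihedral group of order 14 generated by `nn` and the outer involution `g6 ^ 3` -/
def D14 : Set (Perm (Fin 8)) := {g | ∃ i j : ℕ, g = nn ^ i * g6 ^ (3 * j)}

variable {V : Type*} [AddCommGroup V] [Module (ZMod 3) V]

/-- the vectors fixed by all elements of `P` in the set `Y` -/
def fixS {P : Subgroup (Perm (Fin 8))} (ρ : Representation (ZMod 3) ↥P V) (Y : Set (Perm (Fin 8))) :
    Submodule (ZMod 3) V where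
  carrier := {v | ∀ g : ↥P, (g : Perm (Fin 8)) ∈ Y → ρ g v = v}
  add_mem' := fun ha hb g hg => by rw [map_add, ha g hg, hb g hg]
  zero_mem' := fun g _ => map_zero _
  smul_mem' := fun c v hv g hg => by rw [map_smul, hv g hg]

/-- the vectors fixed by `P168` and inverted by the elements of `P` outside `P168` -/
def antS {P : Subgroup (Perm (Fin 8))} (ρ : Representation (ZMod 3) ↥P V) : Submodule (ZMod 3) V where
  carrier := {v | ∀ g : ↥P, ((g : Perm (Fin 8)) ∈ P168 → ρ g v = v) ∧ ((g : Perm (Fin 8)) ∉ P168 → ρ g v = - v)}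
  add_mem' := fun ha hb g => ⟨fun h => by rw [map_add, (ha g).1 h, (hb g).1 h],
    fun h => by rw [map_add, (ha g).2 h, (hb g).2 h, neg_add]⟩
  zero_mem' := fun g => ⟨fun _ => map_zero _, fun _ => by rw [map_zero, neg_zero]⟩
  smul_mem' := fun c v hv g => ⟨fun h => by rw [map_smul, (hv g).1 h],
    fun h => by rw [map_smul, (hv g).2 h, smul_neg]⟩

/-! ### the statements of the tasks (as propositions) -/

/-- Task REP-S: the dimension of the fixed space of `PSL₂(7)` in a self-dual module in characteristic 3. -/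
def RepS : Prop := ∀ (V : Type) [AddCommGroup V] [Module (ZMod 3) V] [Module.Finite (ZMod 3) V]
    (P : Subgroup (Perm (Fin 8))) (_ : P168 ≤ P) (ρ : Representation (ZMod 3) ↥P V)
    (B : LinearMap.BilinForm (ZMod 3) V) (_ : B.Nondegenerate) (_ : B.IsSymm)
    (_ : ∀ g v v', B (ρ g v) (ρ g v') = B v v'),
    3 * Module.finrank (ZMod 3) (fixS ρ D8a) + Module.finrank (ZMod 3) (fixS ρ U7) ≤
      Module.finrank (ZMod 3) (fixS ρ V4a) + Module.finrank (ZMod 3) (fixS ρ V4b) +
        3 * Module.finrank (ZMod 3) (fixS ρ P168)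

/-- Task REP-H: no module of `PGL₂(7)` with the following data. -/
def RepH : Prop := ∀ (V : Type) [AddCommGroup V] [Module (ZMod 3) V] [Module.Finite (ZMod 3) V]
    (ρ : Representation (ZMod 3) ↥P336 V)
    (B : LinearMap.BilinForm (ZMod 3) V) (_ : B.Nondegenerate) (_ : B.IsSymm)
    (_ : ∀ g v v', B (ρ g v) (ρ g v') = B v v')
    (_ : Module.finrank (ZMod 3) V = 248)
    (_ : Module.finrank (ZMod 3) (fixS ρ V4a) = 56) (_ : Module.finrank (ZMod 3) (fixS ρ V4b) = 56)
    (_ : Module.finrank (ZMod 3) (fixS ρ D8a) = 26) (_ : Module.finrank (ZMod 3) (fixS ρ D8b) = 26)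
    (_ : Module.finrank (ZMod 3) (fixS ρ U7) = 38)
    (_ : Module.finrank (ZMod 3) (fixS ρ D14) = 15 ∨ Module.finrank (ZMod 3) (fixS ρ D14) = 31)
    (b8 : ZMod 3) (_ : b8 = 0 ∨ b8 = 1)
    (_ : ∀ g : ↥P336, orderOf g = 2 → (g : Perm (Fin 8)) ∈ P168 → LinearMap.trace (ZMod 3) V (ρ g) = 1)
    (_ : ∀ g : ↥P336, orderOf g = 4 → LinearMap.trace (ZMod 3) V (ρ g) = 0)
    (_ : ∀ g : ↥P336, orderOf g = 7 → LinearMap.trace (ZMod 3) V (ρ g) = 0)
    (_ : ∀ g : ↥P336, orderOf g = 8 → LinearMap.trace (ZMod 3) V (ρ g) = b8)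
    (_ : Module.finrank (ZMod 3) (fixS ρ P336) ≤ 2)
    (_ : Module.finrank (ZMod 3) (antS ρ) ≤ 1) (_ : b8 = 1 → Module.finrank (ZMod 3) (antS ρ) = 0), False

/-- Task GRP: groups with generalized Fitting subgroup `PSL₂(7)`. -/
def Grp : Prop := ∀ (F : Type u) [Field F] [Fintype F] (_ : Fintype.card F = 7) (H : Type) [Group H] [Finite H]
    (_ : Nonempty (↥(Cfsg.generalizedFittingSubgroup H) ≃* Matrix.ProjectiveSpecialLinearGroup (Fin 2) F)),
    Nonempty (H ≃* ↥P168) ∨ Nonempty (H ≃* ↥P336)

/-- Task FORM: the invariant form of the adjoint module of `E₈`. -/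
def Form : Prop := ∀ (K : Type) [Field K], ∃ J : Matrix Cfsg.Lie.chevE8.Idx Cfsg.Lie.chevE8.Idx K,
    J.transpose = J ∧ IsUnit J.det ∧ ∀ g ∈ Cfsg.Lie.chevE8.group K,
      (g : Matrix Cfsg.Lie.chevE8.Idx Cfsg.Lie.chevE8.Idx K).transpose * J *
        (g : Matrix Cfsg.Lie.chevE8.Idx Cfsg.Lie.chevE8.Idx K) = J

end Cfsg.Agent.H942.L7
end

-- part: H597/E8Form
section
set_option linter.all false
open scoped Cfsg.Agent.FastGrp

-- part: H597/E8Tab
section
/-!
# `E₈`: the symmetry `N_{r,s} = - N_{r,-r-s}` of the structure constants (helper597, S5920)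

* `mir` : the chain entries of `E₈` are single and symmetric;
* `cor_car` : `∑ᵢ cᵢ(r) A_{ij} = A_{jr}`.
-/

set_option autoImplicit false

namespace Cfsg.Agent.H597.E8Form

open Cfsg Cfsg.Lie
open Cfsg.Agent.ChevalleyStructure.Columns
open Cfsg.Agent.ChevalleyStructure.Additive
open Cfsg.Agent.ChevalleyStructure.GoodCheck

/-- two entries are mirror images -/
def entM (e : ℕ × Array (ℕ × ℤ)) (e' : ℕ × Array (ℕ × ℤ)) : Bool :=
  match e.2.toList, e'.2.toList with
  | [(u, m)], [(u', m')] => Nat.beq u' (239 - e.1) && (Nat.beq e'.1 (239 - u) && decide (m' = -m))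
  | _, _ => false

/-- `l'` is the mirror image of `l` -/
def mirOK (l : List (ℕ × Array (ℕ × ℤ))) : List (ℕ × Array (ℕ × ℤ)) → Bool :=
  List.rec (motive := fun _ => List (ℕ × Array (ℕ × ℤ)) → Bool) (fun _ => true)
    (fun e _ ih l' => List.rec (motive := fun _ => Bool) false (fun e' t' _ => entM e e' && ih t') l') l

theorem mirOK_sound (l : List (ℕ × Array (ℕ × ℤ))) : ∀ l', mirOK l l' = true →
    ∀ e ∈ l, ∃ e' ∈ l', ∃ u m, e.2.toList = [(u, m)] ∧ e'.1 = 239 - u ∧ e'.2.toList = [(239 - e.1, -m)] := by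
  induction l with
  | nil => intro l' _ e he; simp at he
  | cons a l ih =>
    intro l' h e he
    cases l' with
    | nil => exact absurd h (by simp [mirOK])
    | cons a' l' =>
      have h' : (entM a a' && mirOK l l') = true := h
      rw [Bool.and_eq_true] at h'
      rcases List.mem_cons.1 he with rfl | he
      · refine ⟨a', by simp, ?_⟩
        have h1 := h'.1
        unfold entM at h1
        split at h1
        · rename_i u m u' m' h2 h3
          simp only [Bool.and_eq_true, decide_eq_true_eq] at h1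
          obtain ⟨h4, h5, h6⟩ := h1
          exact ⟨u, m, h2, Nat.eq_of_beq_eq_true h5, by rw [h3, Nat.eq_of_beq_eq_true h4, h6]⟩
        · exact absurd h1 (by simp)
      · obtain ⟨e', h1, h2⟩ := ih l' h'.2 e he
        exact ⟨e', by simp [h1], h2⟩

/-- all rows -/
def allMir (l : List (Array (ℕ × Array (ℕ × ℤ)))) : Bool :=
  List.rec (motive := fun _ => Bool) true (fun a _ ih => mirOK a.toList a.toList.reverse && ih) l

theorem allMir_sound (l : List (Array (ℕ × Array (ℕ × ℤ)))) (h : allMir l = true) :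
    ∀ a ∈ l, mirOK a.toList a.toList.reverse = true := by
  induction l with
  | nil => intro a ha; simp at ha
  | cons b l ih =>
    have h' : (mirOK b.toList b.toList.reverse && allMir l) = true := h
    rw [Bool.and_eq_true] at h'
    intro a ha
    rcases List.mem_cons.1 ha with rfl | ha
    · exact h'.1
    · exact ih h'.2 a ha

private def frc {α : Type} (x : ℕ) (f : ℕ → α) : α := Nat.rec (f 0) (fun k _ => f (Nat.succ k)) x

private theorem frc_eq {α : Type} (x : ℕ) (f : ℕ → α) : frc x f = f x := by cases x <;> rfl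

private def nth {α : Type} (d : α) (l : List α) : ℕ → α :=
  List.rec (fun _ => d) (fun a _ ih n => Nat.rec a (fun k _ => ih k) n) l

private theorem nth_eq {α : Type} (d : α) (l : List α) (n : ℕ) : nth d l n = l.getD n d := by
  induction l generalizing n with
  | nil => rfl
  | cons a l ih => cases n with
    | zero => rfl
    | succ k => exact ih k

private def fgd {α : Type} (a : Array α) (n : ℕ) (d : α) : α := frc n (nth d a.toList)

private theorem gd_eq {α : Type} (a : Array α) (n : ℕ) (d : α) : a.getD n d = fgd a n d := by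
  rw [fgd, frc_eq, nth_eq, List.getD_eq_getElem?_getD, Array.getD_eq_getD_getElem?, Array.getElem?_toList]

theorem allMir_E8 : allMir chevE8.chain.toList = true := by decide +kernel

theorem neg_E8 : ∀ r < 240, Nat.beq (chevE8.negIdx.getD r 0) (239 - r) = true := by
  simp only [gd_eq]; decide +kernel

/-- the Cartan integers -/
theorem sym_E8 : ∀ i < 8, ∀ j < 8, car chevE8 i (chevE8.simpleIdx.getD j 0) = car chevE8 j (chevE8.simpleIdx.getD i 0) := by
  unfold car; simp only [gd_eq]; decide +kernel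

theorem cor_car_E8_a : ∀ r < 60, ∀ j < 8,
    ∑ i ∈ Finset.range 8, cor chevE8 r i * car chevE8 i (chevE8.simpleIdx.getD j 0) = car chevE8 j r := by
  unfold cor car; simp only [gd_eq]; decide +kernel

theorem cor_car_E8_b : ∀ r < 60, ∀ j < 8,
    ∑ i ∈ Finset.range 8, cor chevE8 (60 + r) i * car chevE8 i (chevE8.simpleIdx.getD j 0) = car chevE8 j (60 + r) := by
  unfold cor car; simp only [gd_eq]; decide +kernel

theorem cor_car_E8_c : ∀ r < 60, ∀ j < 8,
    ∑ i ∈ Finset.range 8, cor chevE8 (120 + r) i * car chevE8 i (chevE8.simpleIdx.getD j 0) = car chevE8 j (120 + r) := by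
  unfold cor car; simp only [gd_eq]; decide +kernel

theorem cor_car_E8_d : ∀ r < 60, ∀ j < 8,
    ∑ i ∈ Finset.range 8, cor chevE8 (180 + r) i * car chevE8 i (chevE8.simpleIdx.getD j 0) = car chevE8 j (180 + r) := by
  unfold cor car; simp only [gd_eq]; decide +kernel

/-- `h_r` in terms of the Cartan integers -/
theorem cor_car_E8 : ∀ r < 240, ∀ j < 8,
    ∑ i ∈ Finset.range 8, cor chevE8 r i * car chevE8 i (chevE8.simpleIdx.getD j 0) = car chevE8 j r := by
  intro r hr j hj
  rcases lt_or_ge r 60 with h1 | h1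
  · exact cor_car_E8_a r h1 j hj
  rcases lt_or_ge r 120 with h2 | h2
  · obtain ⟨s, rfl⟩ := Nat.exists_eq_add_of_le h1
    exact cor_car_E8_b s (by omega) j hj
  rcases lt_or_ge r 180 with h3 | h3
  · obtain ⟨s, rfl⟩ := Nat.exists_eq_add_of_le h2
    exact cor_car_E8_c s (by omega) j hj
  · obtain ⟨s, rfl⟩ := Nat.exists_eq_add_of_le h3
    exact cor_car_E8_d s (by omega) j hj

/-- the Cartan matrix -/
def AZ : Matrix (Fin 8) (Fin 8) ℤ := Matrix.of fun i j => car chevE8 i.val (chevE8.simpleIdx.getD j.val 0)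

/-- its inverse -/
def BZ : Matrix (Fin 8) (Fin 8) ℤ :=
  !![4, 5, 7, 10, 8, 6, 4, 2; 5, 8, 10, 15, 12, 9, 6, 3; 7, 10, 14, 20, 16, 12, 8, 4; 10, 15, 20, 30, 24, 18, 12, 6;
     8, 12, 16, 24, 20, 15, 10, 5; 6, 9, 12, 18, 15, 12, 8, 4; 4, 6, 8, 12, 10, 8, 6, 3; 2, 3, 4, 6, 5, 4, 3, 2]

theorem AZ_mul_BZ : AZ * BZ = 1 := by decide +kernel

end Cfsg.Agent.H597.E8Form
end

-- part: H597/E8Form
section
/-!
# The invariant symmetric form of the adjoint module of `E₈` (helper597, task FORM of S5920)

`J(h_i, h_j) = A_{ij}`, `J(e_r, e_{-r}) = 1`, everything else 0.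
-/

set_option autoImplicit false

namespace Cfsg.Agent.H597.E8Form

open Cfsg Cfsg.Lie Matrix
open Cfsg.Agent.ChevalleyStructure.Columns
open Cfsg.Agent.ChevalleyStructure.Additive
open Cfsg.Agent.ChevalleyStructure.Good
open Cfsg.Agent.ChevalleyStructure.GoodCheck

theorem good (r : ℕ) (hr : r < 240) : GoodAt chevE8 r := goodAt_of_mem chevE8 (by simp) r hr

theorem neg_eq (r : ℕ) (hr : r < 240) : chevE8.negIdx.getD r 0 = 239 - r :=
  Nat.eq_of_beq_eq_true (neg_E8 r hr)

/-- the chain entries are single and symmetric -/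
theorem entry (r : ℕ) (hr : r < 240) (s : ℕ) : chevE8.chainEntry r s = [] ∨
    ∃ u m, chevE8.chainEntry r s = [(u, m)] ∧ u < 240 ∧ chevE8.chainEntry r (239 - u) = [(239 - s, -m)] := by
  have hg := good r hr
  have hrow : (chevE8.chain.toList.getD r #[]).toList = _root_.Cfsg.Agent.ChevalleyStructure.Columns.row chevE8 r := by
    rw [Cfsg.Agent.ChevalleyStructure.Columns.row_def]
    simp
  have hlen : chevE8.chain.toList.length = 240 := rfl
  have hmem : chevE8.chain.toList.getD r #[] ∈ chevE8.chain.toList := by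
    rw [List.getD_eq_getElem _ _ (by rw [hlen]; exact hr)]
    exact List.getElem_mem _
  have h1 := allMir_sound _ allMir_E8 _ hmem
  rw [hrow] at h1
  have h2 := mirOK_sound _ _ h1
  rw [chainEntry_eq_look]
  rcases look_mem (_root_.Cfsg.Agent.ChevalleyStructure.Columns.row chevE8 r) s with h3 | ⟨e, he, h4, h5⟩
  · exact Or.inl h3
  · right
    obtain ⟨e', he', u, m, h6, h7, h8⟩ := h2 e he
    rw [List.mem_reverse] at he'
    refine ⟨u, m, by rw [h5, h6], ?_, ?_⟩
    · exact hg.lt s (u, m) (by rw [chainEntry_eq_look, h5, h6]; simp)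
    · rw [chainEntry_eq_look]
      rcases filter_of_sorted (_root_.Cfsg.Agent.ChevalleyStructure.Columns.row chevE8 r) 0 hg.sorted (239 - u) with ⟨h9, -⟩ | ⟨e'', -, -, h9, h10⟩
      · exfalso
        have h11 : e' ∈ (_root_.Cfsg.Agent.ChevalleyStructure.Columns.row chevE8 r).filter (fun e => e.1 = 239 - u) := by
          rw [List.mem_filter]
          exact ⟨he', by simpa using h7⟩
        rw [h9] at h11
        simp at h11
      · have h11 : e' ∈ (_root_.Cfsg.Agent.ChevalleyStructure.Columns.row chevE8 r).filter (fun e => e.1 = 239 - u) := by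
          rw [List.mem_filter]
          exact ⟨he', by simpa using h7⟩
        rw [h9, List.mem_singleton] at h11
        rw [h10, ← h11, h8, h4]

variable {K : Type*} [Field K]

/-- the symmetry of the chain sums -/
theorem chSum_symm (r : ℕ) (hr : r < 240) (s u : ℕ) (hs : s < 240) (hu : u < 240) (t : K) :
    chSum (fun w => if 239 - s = w then (1 : K) else 0) t 1 (chevE8.chainEntry r u) =
      chSum (fun w => if 239 - u = w then (1 : K) else 0) (-t) 1 (chevE8.chainEntry r s) := by
  rcases entry r hr s with h1 | ⟨v, m, h1, h2, h3⟩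
  · rw [h1, chSum_nil]
    rcases entry r hr u with h4 | ⟨v', m', h4, h5, h6⟩
    · rw [h4, chSum_nil]
    · rw [h4, chSum_cons, chSum_nil]
      by_cases h : 239 - s = v'
      · exfalso
        have h7 : 239 - v' = s := by omega
        rw [h7, h1] at h6
        simp at h6
      · simp [h]
  · rw [h1, chSum_cons, chSum_nil]
    by_cases h : 239 - u = v
    · have h7 : 239 - v = u := by omega
      rw [h7] at h3
      rw [h3, chSum_cons, chSum_nil]
      simp only [h, if_true]
      push_cast
      ring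
    · rcases entry r hr u with h4 | ⟨v', m', h4, h5, h6⟩
      · rw [h4, chSum_nil]
        simp [h]
      · rw [h4, chSum_cons, chSum_nil]
        by_cases h' : 239 - s = v'
        · exfalso
          have h7 : 239 - v' = s := by omega
          rw [h7, h1] at h6
          simp only [List.cons.injEq, Prod.mk.injEq, and_true] at h6
          omega
        · simp only [h, h', _root_.pow_one, ↓ _root_.reduceIte, _root_.MulZeroClass.mul_zero, _root_.add_zero, _root_.mul_neg]

/-- the entries of a chain avoid `± r` -/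
theorem chSum_avoid (r : ℕ) (hr : r < 240) (s w : ℕ) (hw : w = r ∨ w = 239 - r) (t : K) :
    chSum (fun v => if w = v then (1 : K) else 0) t 1 (chevE8.chainEntry r s) = 0 := by
  have hg := good r hr
  have h0 : ∀ (k : ℕ) (l : List (ℕ × ℤ)), chSum (fun _ => (0 : K)) t k l = 0 := by
    intro k l
    induction l generalizing k with
    | nil => rfl
    | cons e l ih => rw [chSum_cons, ih]; ring
  rw [chSum_congr _ (fun _ => (0 : K)), h0]
  intro e he
  have h1 := hg.ne s e he
  have h2 := hg.ne_neg s e he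
  rw [neg_eq r hr] at h2
  rcases hw with rfl | rfl
  · rw [if_neg (fun h => h1 h.symm)]
  · rw [if_neg (fun h => h2 h.symm)]

/-- the opposite root -/
def rv (s : Fin chevE8.nroots) : Fin chevE8.nroots := Fin.rev s

theorem rv_val (s : Fin chevE8.nroots) : (rv s).val = 239 - s.val := by
  show (Fin.rev s).val = _
  rw [Fin.val_rev]
  show 240 - (s.val + 1) = _
  omega

theorem lt240 (s : Fin chevE8.nroots) : s.val < 240 := s.isLt

theorem lt8 (s : Fin chevE8.rank) : s.val < 8 := s.isLt

/-- `x_r(t)` restricted to the root vectors -/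
theorem xMat_symm (r s u : Fin chevE8.nroots) (t : K) :
    chevE8.xMat K r t (Sum.inr (rv s)) (Sum.inr u) = chevE8.xMat K r (-t) (Sum.inr (rv u)) (Sum.inr s) := by
  have hr := lt240 r
  have hs := lt240 s
  have hu := lt240 u
  have hsort := (good r.val hr).sorted
  -- the columns
  have key : ∀ (t : K) (w v : Fin chevE8.nroots), chevE8.xMat K r t (Sum.inr w) (Sum.inr v) =
      if v.val = r.val then (if w.val = r.val then 1 else 0)
      else if v.val = 239 - r.val then (if w.val = v.val then 1 else 0) - t ^ 2 * (if w.val = r.val then 1 else 0)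
      else (if w.val = v.val then 1 else 0) +
        chSum (fun z => if w.val = z then (1 : K) else 0) t 1 (chevE8.chainEntry r.val v.val) := by
    intro t w v
    by_cases h1 : v = r
    · subst h1
      rw [xMat_self, dl_inr, if_pos rfl]
    · have h1' : ¬ v.val = r.val := fun h => h1 (Fin.ext h)
      rw [if_neg h1']
      by_cases h2 : v.val = 239 - r.val
      · rw [if_pos h2, xMat_neg chevE8 r t _ v (by rw [neg_eq _ hr]; exact h2) h1, dl_inr, dl_inr]
        simp only [_root_.reduceCtorEq, ↓ _root_.reduceIte, _root_.MulZeroClass.mul_zero, _root_.Finset.sum_const_zero, _root_.add_zero, _root_.mul_ite, _root_.mul_one]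
      · rw [if_neg h2, xMat_ne chevE8 r t _ v (by rw [neg_eq _ hr]; exact h2) h1 hsort]
        rfl
  rw [key, key, rv_val, rv_val]
  by_cases hur : u.val = r.val
  · rw [if_pos hur]
    by_cases hsr : s.val = r.val
    · rw [if_pos hsr, hsr, hur]
    · rw [if_neg hsr]
      by_cases hsn : s.val = 239 - r.val
      · rw [if_pos hsn, hsn, hur]
        have h1 : 239 - (239 - r.val) = r.val := by omega
        have h2 : ¬ 239 - r.val = r.val := by omega
        rw [h1, if_pos rfl, if_pos rfl, if_neg h2]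
        ring
      · rw [if_neg hsn, chSum_avoid _ hr _ _ (Or.inr (by rw [hur])), if_neg (by omega), if_neg (by omega)]
        ring
  · rw [if_neg hur]
    by_cases hun : u.val = 239 - r.val
    · rw [if_pos hun, hun]
      have h1 : 239 - (239 - r.val) = r.val := by omega
      have h2 : ¬ 239 - r.val = r.val := by omega
      rw [h1]
      by_cases hsr : s.val = r.val
      · rw [if_pos hsr, hsr, if_pos rfl, if_pos rfl, if_neg h2]
        ring
      · rw [if_neg hsr]
        by_cases hsn : s.val = 239 - r.val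
        · rw [if_pos hsn, hsn, h1, if_neg (by omega), if_pos rfl]
          ring
        · rw [if_neg hsn, chSum_avoid _ hr _ _ (Or.inl rfl), if_neg (by (clear * - hs h1 hsr; omega)), if_neg (by (clear * - hs hsn; omega)),
            if_neg (by omega)]
          ring
    · rw [if_neg hun]
      by_cases hsr : s.val = r.val
      · rw [if_pos hsr, chSum_avoid _ hr _ _ (Or.inr (by rw [hsr])), if_neg (by omega), if_neg (by omega)]
        ring
      · rw [if_neg hsr]
        by_cases hsn : s.val = 239 - r.val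
        · rw [if_pos hsn, chSum_avoid _ hr _ _ (Or.inl (by omega)), if_neg (by omega), if_neg (by omega),
            if_neg (by omega)]
          ring
        · have h5 : (if 239 - s.val = u.val then (1 : K) else 0) = if 239 - u.val = s.val then 1 else 0 := by
            by_cases h : 239 - s.val = u.val
            · rw [if_pos h, if_pos (by omega)]
            · rw [if_neg h, if_neg (by omega)]
          rw [if_neg hsn, chSum_symm _ hr _ _ hs hu, h5]

/-- the form -/
def J (K : Type*) [Field K] : Matrix chevE8.Idx chevE8.Idx K := Matrix.of fun a b =>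
  match a, b with
  | Sum.inl i, Sum.inl j => ((AZ ⟨i.val, lt8 i⟩ ⟨j.val, lt8 j⟩ : ℤ) : K)
  | Sum.inr s, Sum.inr u => if u = rv s then 1 else 0
  | _, _ => 0

theorem J_ll (i j : Fin chevE8.rank) : J K (Sum.inl i) (Sum.inl j) = ((AZ ⟨i.val, lt8 i⟩ ⟨j.val, lt8 j⟩ : ℤ) : K) := rfl
theorem J_lr (i : Fin chevE8.rank) (u : Fin chevE8.nroots) : J K (Sum.inl i) (Sum.inr u) = 0 := rfl
theorem J_rl (i : Fin chevE8.rank) (u : Fin chevE8.nroots) : J K (Sum.inr u) (Sum.inl i) = 0 := rfl
theorem J_rr (s u : Fin chevE8.nroots) : J K (Sum.inr s) (Sum.inr u) = if u = rv s then 1 else 0 := rfl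

theorem rv_rv (s : Fin chevE8.nroots) : rv (rv s) = s := Fin.rev_rev s

theorem AZ_symm (i j : Fin 8) : AZ i j = AZ j i := sym_E8 i.val i.isLt j.val j.isLt

theorem J_transpose : (J K).transpose = J K := by
  ext a b
  rw [Matrix.transpose_apply]
  rcases a with i | s <;> rcases b with j | u
  · rw [J_ll, J_ll, AZ_symm]
  · rw [J_lr, J_rl]
  · rw [J_lr, J_rl]
  · rw [J_rr, J_rr]
    by_cases h : s = rv u
    · rw [if_pos h, h, rv_rv, if_pos rfl]
    · rw [if_neg h, if_neg]
      intro h1
      apply h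
      rw [h1, rv_rv]

theorem sum_J_rr (s : Fin chevE8.nroots) (f : Fin chevE8.nroots → K) :
    ∑ w : Fin chevE8.nroots, J K (Sum.inr s) (Sum.inr w) * f w = f (rv s) := by
  have h : ∀ w, J K (Sum.inr s) (Sum.inr w) * f w = if w = rv s then f w else 0 := fun w => by
    rw [J_rr, ite_mul, one_mul, zero_mul]
  rw [Finset.sum_congr rfl fun w _ => h w, Finset.sum_ite_eq' Finset.univ (rv s) f, if_pos (Finset.mem_univ _)]

theorem sum_rr_J (u : Fin chevE8.nroots) (f : Fin chevE8.nroots → K) :
    ∑ w : Fin chevE8.nroots, f w * J K (Sum.inr w) (Sum.inr u) = f (rv u) := by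
  have h : ∀ w, f w * J K (Sum.inr w) (Sum.inr u) = J K (Sum.inr u) (Sum.inr w) * f w := fun w => by
    rw [mul_comm]
    congr 1
    exact congrFun (congrFun J_transpose (Sum.inr u)) (Sum.inr w)
  rw [Finset.sum_congr rfl fun w _ => h w, sum_J_rr]

/-- `h_r` in terms of the Cartan integers -/
theorem cor_car (r : Fin chevE8.nroots) (j : Fin chevE8.rank) :
    ∑ i : Fin chevE8.rank, (cor chevE8 r.val i.val : K) * ((AZ ⟨i.val, lt8 i⟩ ⟨j.val, lt8 j⟩ : ℤ) : K) =
      (car chevE8 j.val r.val : K) := by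
  rw [← cor_car_E8 r.val (lt240 r) j.val (lt8 j)]
  push_cast
  rw [← Fin.sum_univ_eq_sum_range (fun i => (cor chevE8 r.val i : K) *
    ((car chevE8 i (chevE8.simpleIdx.getD j.val 0) : ℤ) : K)) 8]
  rfl

theorem J_mul_xMat (r : Fin chevE8.nroots) (t : K) :
    J K * chevE8.xMat K r t = (chevE8.xMat K r (-t)).transpose * J K := by
  have hr := lt240 r
  ext a b
  rw [Matrix.mul_apply, Matrix.mul_apply, Fintype.sum_sum_type, Fintype.sum_sum_type]
  simp only [Matrix.transpose_apply]
  rcases a with i | s <;> rcases b with j | u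
  · simp only [J_lr, J_rl, zero_mul, mul_zero, Finset.sum_const_zero, add_zero, xMat_inl_inl]
    simp only [mul_ite, mul_one, mul_zero, ite_mul, one_mul, zero_mul]
    rw [Finset.sum_ite_eq' Finset.univ j, Finset.sum_ite_eq' Finset.univ i, if_pos (Finset.mem_univ _),
      if_pos (Finset.mem_univ _)]
  · simp only [J_lr, zero_mul, mul_zero, Finset.sum_const_zero, add_zero, zero_add]
    rw [sum_rr_J u (fun w => chevE8.xMat K r (-t) (Sum.inr w) (Sum.inl i)), xMat_inr_inl]
    simp only [xMat_inl_inr, neg_eq r.val hr]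
    by_cases h1 : u = r
    · subst h1
      have h2 : rv u ≠ u := fun h => by
        have := congrArg Fin.val h
        rw [rv_val] at this
        omega
      simp only [h2, ↓ _root_.reduceIte, _root_.MulZeroClass.mul_zero, _root_.Finset.sum_const_zero]
    · by_cases h2 : u.val = 239 - r.val
      · have h3 : rv u = r := Fin.ext (by rw [rv_val, h2]; omega)
        rw [if_pos h3, ← cor_car]
        simp only [h1, h2, if_false, if_true]
        rw [neg_mul_neg, Finset.sum_mul]
        refine Finset.sum_congr rfl fun k _ => ?_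
        rw [J_ll, AZ_symm]
        ring
      · have h3 : rv u ≠ r := fun h => by
          apply h2
          rw [← h, rv_val]
          have := lt240 u
          omega
        simp only [h1, h2, h3, ↓ _root_.reduceIte, _root_.MulZeroClass.mul_zero, _root_.Finset.sum_const_zero]
  · simp only [J_rl, zero_mul, mul_zero, Finset.sum_const_zero, add_zero, zero_add]
    rw [sum_J_rr s (fun w => chevE8.xMat K r t (Sum.inr w) (Sum.inl j)), xMat_inr_inl]
    simp only [xMat_inl_inr, neg_eq r.val hr]
    by_cases h1 : s = r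
    · subst h1
      have h2 : rv s ≠ s := fun h => by
        have := congrArg Fin.val h
        rw [rv_val] at this
        omega
      simp only [h2, ↓ _root_.reduceIte, _root_.MulZeroClass.zero_mul, _root_.Finset.sum_const_zero]
    · by_cases h2 : s.val = 239 - r.val
      · have h3 : rv s = r := Fin.ext (by rw [rv_val, h2]; omega)
        rw [if_pos h3, ← cor_car]
        simp only [h1, h2, if_false, if_true]
        rw [neg_mul, Finset.sum_mul, ← Finset.sum_neg_distrib]
        refine Finset.sum_congr rfl fun k _ => ?_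
        rw [J_ll]
        ring
      · have h3 : rv s ≠ r := fun h => by
          apply h2
          rw [← h, rv_val]
          have := lt240 s
          omega
        simp only [h1, h2, h3, ↓ _root_.reduceIte, _root_.MulZeroClass.zero_mul, _root_.Finset.sum_const_zero]
  · simp only [J_lr, J_rl, zero_mul, mul_zero, Finset.sum_const_zero, zero_add]
    rw [sum_J_rr s (fun w => chevE8.xMat K r t (Sum.inr w) (Sum.inr u)),
      sum_rr_J u (fun w => chevE8.xMat K r (-t) (Sum.inr w) (Sum.inr s))]
    exact xMat_symm r s u t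

theorem inv_gen (r : Fin chevE8.nroots) (t : K) :
    (chevE8.xMat K r t).transpose * J K * chevE8.xMat K r t = J K := by
  have hg := good r.val (lt240 r)
  have h0 : chevE8.xMat K r 0 = 1 := by
    have := x_zero (F := K) r.val hg
    rwa [x_eq_xMat r.val r.isLt] at this
  rw [Matrix.mul_assoc, J_mul_xMat, ← Matrix.mul_assoc, ← Matrix.transpose_mul, xMat_add r hg, neg_add_cancel, h0,
    Matrix.transpose_one, Matrix.one_mul]

theorem isUnit_det : IsUnit (J K).det := by
  let J' : Matrix chevE8.Idx chevE8.Idx K := Matrix.of fun a b =>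
    match a, b with
    | Sum.inl i, Sum.inl j => ((BZ ⟨i.val, lt8 i⟩ ⟨j.val, lt8 j⟩ : ℤ) : K)
    | Sum.inr s, Sum.inr u => if u = rv s then 1 else 0
    | _, _ => 0
  refine Matrix.isUnit_det_of_right_inverse (B := J') ?_
  ext a b
  rw [Matrix.mul_apply, Fintype.sum_sum_type]
  rcases a with i | s <;> rcases b with j | u
  · simp only [J_lr, zero_mul, Finset.sum_const_zero, add_zero]
    have h1 := congrFun (congrFun AZ_mul_BZ ⟨i.val, lt8 i⟩) ⟨j.val, lt8 j⟩
    rw [Matrix.mul_apply] at h1
    have h2 := congrArg (Int.cast (R := K)) h1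
    push_cast at h2
    refine Eq.trans h2 ?_
    by_cases h : i = j
    · subst h
      simp
    · rw [Matrix.one_apply_ne (fun h' => h (Fin.ext (by simpa using congrArg Fin.val h'))),
        Matrix.one_apply_ne (fun h' => h (Sum.inl.inj h'))]
      simp
  · have h1 : ∀ k : Fin chevE8.rank, J' (Sum.inl k) (Sum.inr u) = 0 := fun _ => rfl
    simp only [J_lr, h1, zero_mul, mul_zero, Finset.sum_const_zero, add_zero]
    rw [Matrix.one_apply_ne (by simp)]
  · have h1 : ∀ k : Fin chevE8.nroots, J' (Sum.inr k) (Sum.inl j) = 0 := fun _ => rfl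
    simp only [J_rl, h1, zero_mul, mul_zero, Finset.sum_const_zero, add_zero]
    rw [Matrix.one_apply_ne (by simp)]
  · simp only [J_rl, zero_mul, Finset.sum_const_zero, zero_add]
    rw [sum_J_rr s (fun w => J' (Sum.inr w) (Sum.inr u))]
    show (if u = rv (rv s) then (1 : K) else 0) = _
    rw [rv_rv]
    by_cases h : u = s
    · subst h
      simp
    · rw [if_neg h, Matrix.one_apply_ne (fun h' => h (Sum.inr.inj h').symm)]

/-- **Task FORM.** -/
theorem form : Cfsg.Agent.H942.L7.Form := by
  intro K _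
  refine ⟨J K, J_transpose, isUnit_det, fun g hg => ?_⟩
  unfold ChevalleyDatum.group at hg
  induction hg using Subgroup.closure_induction with
  | mem x hx =>
    obtain ⟨r, t, h⟩ := hx
    rw [h]
    exact inv_gen r t
  | one => simp
  | mul x y _ _ hx hy =>
    rw [Units.val_mul, Matrix.transpose_mul]
    calc ((y : Matrix chevE8.Idx chevE8.Idx K)).transpose * ((x : Matrix chevE8.Idx chevE8.Idx K)).transpose * J K *
          ((x : Matrix chevE8.Idx chevE8.Idx K) * (y : Matrix chevE8.Idx chevE8.Idx K))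
        = ((y : Matrix chevE8.Idx chevE8.Idx K)).transpose * (((x : Matrix chevE8.Idx chevE8.Idx K)).transpose * J K *
          (x : Matrix chevE8.Idx chevE8.Idx K)) * (y : Matrix chevE8.Idx chevE8.Idx K) := by
          simp only [Matrix.mul_assoc]
      _ = _ := by rw [hx, hy]
  | inv x _ hx =>
    have h1 : (x : Matrix chevE8.Idx chevE8.Idx K) * ((x⁻¹ : GL chevE8.Idx K) : Matrix chevE8.Idx chevE8.Idx K) = 1 := by
      rw [← Units.val_mul, mul_inv_cancel, Units.val_one]
    calc (((x⁻¹ : GL chevE8.Idx K) : Matrix chevE8.Idx chevE8.Idx K)).transpose * J K *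
          ((x⁻¹ : GL chevE8.Idx K) : Matrix chevE8.Idx chevE8.Idx K)
        = (((x⁻¹ : GL chevE8.Idx K) : Matrix chevE8.Idx chevE8.Idx K)).transpose *
          (((x : Matrix chevE8.Idx chevE8.Idx K)).transpose * J K * (x : Matrix chevE8.Idx chevE8.Idx K)) *
          ((x⁻¹ : GL chevE8.Idx K) : Matrix chevE8.Idx chevE8.Idx K) := by rw [hx]
      _ = ((x : Matrix chevE8.Idx chevE8.Idx K) *
          ((x⁻¹ : GL chevE8.Idx K) : Matrix chevE8.Idx chevE8.Idx K)).transpose * J K *
          ((x : Matrix chevE8.Idx chevE8.Idx K) *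
          ((x⁻¹ : GL chevE8.Idx K) : Matrix chevE8.Idx chevE8.Idx K)) := by
          simp only [Matrix.transpose_mul, Matrix.mul_assoc]
      _ = J K := by rw [h1, Matrix.transpose_one, Matrix.one_mul, Matrix.mul_one]

end Cfsg.Agent.H597.E8Form
end

private theorem dce_f8ffd2424230 : _root_.True := by
  try have : _root_.True := by simp only [_root_.Cfsg.Agent.H597.E8Form.entM._sparseCasesOn_2.else_eq]
  try have : _root_.True := by simp only [_root_.Cfsg.Agent.H597.E8Form.entM._sparseCasesOn_1.else_eq]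
  try have : _root_.True := by simp only [_root_.Cfsg.Agent.H597.E8Form.mirOK.eq_1]
  exact _root_.True.intro
end
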