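import Cfsg.Agent.H597.Base
import Cfsg.Agent.H597.IndexP
import Cfsg.Agent.H597.Taketa
import Cfsg.Agent.S0168
set_option linter.all false

/-!
# Groups with three character degrees `1, m, n`, `m` and `n` coprime, have a nonlinear nonfaithful
irreducible character
-/

set_option autoImplicit false

namespace Cfsg.Agent.H597.ThreeDegC

open Cfsg
open Cfsg.Agent.Characters.Core Cfsg.Agent.Characters.Clifford Cfsg.Agent.Characters.Linear
open Cfsg.Agent.H597.Base
open Cfsg.Agent.Blocks.Basic (charDegree_of_eq irr_one_eq_charDegree charDegree_pos)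
open Subgroup
open scoped commutatorElement ComplexConjugate

universe u
variable {G : Type u} [Group G]

/-- The complex conjugate of a function. -/
def cc (χ : G → ℂ) : G → ℂ := fun g => conj (χ g)

theorem isIrr_cc [Finite G] {χ : G → ℂ} (hχ : IsIrrCharacter G χ) : IsIrrCharacter G (cc χ) :=
  isIrr_conj hχ

theorem charDegree_cc [Finite G] {χ : G → ℂ} (hχ : IsIrrCharacter G χ) :
    charDegree (cc χ) = charDegree χ := by
  apply charDegree_of_eq
  rw [cc, irr_one_eq_charDegree hχ, map_natCast]

theorem cc_cc (χ : G → ℂ) : cc (cc χ) = χ := by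
  funext g
  simp [cc]

theorem classInner_mul [Fintype G] (φ ψ η : G → ℂ) :
    classInner (φ * ψ) η = classInner φ (cc ψ * η) := by
  rw [classInner_def, classInner_def]
  congr 1
  refine Finset.sum_congr rfl fun g _ => ?_
  simp only [Pi.mul_apply, cc, map_mul, Complex.conj_conj]
  ring

theorem classInner_mul' [Fintype G] (φ ψ η : G → ℂ) :
    classInner (φ * ψ) η = classInner ψ (cc φ * η) := by
  rw [mul_comm, classInner_mul]

/-- The product of an irreducible character and a linear character. -/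
theorem isIrr_mul_linear [Finite G] {χ l : G → ℂ} (hχ : IsIrrCharacter G χ)
    (hl : IsIrrCharacter G l) (h1 : charDegree l = 1) : IsIrrCharacter G (l * χ) := by
  obtain ⟨f, rfl⟩ := exists_hom_of_isIrrCharacter hl
    (by rw [irr_one_eq_charDegree hl, h1, Nat.cast_one])
  exact H597.IndexP.isIrr_mul_hom hχ f

theorem charDegree_mul [Finite G] {χ β : G → ℂ} (hχ : IsIrrCharacter G χ)
    (hβ : IsIrrCharacter G β) : charDegree (β * χ) = charDegree β * charDegree χ := by
  apply charDegree_of_eq
  rw [Pi.mul_apply, irr_one_eq_charDegree hχ, irr_one_eq_charDegree hβ]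
  push_cast
  rfl

theorem classInner_eq_zero_of_degree [Fintype G] {χ ψ : G → ℂ} (hχ : IsIrrCharacter G χ)
    (hψ : IsIrrCharacter G ψ) (h : charDegree χ ≠ charDegree ψ) : classInner χ ψ = 0 :=
  classInner_irr_ne hχ hψ fun h' => h (by rw [h'])

section count

variable [Fintype (IrrCharacter G)]

open scoped Classical in
/-- The number of constituents of degree `d`, with multiplicity. -/
noncomputable def cnt (c : IrrCharacter G → ℕ) (d : ℕ) : ℕ :=
  ∑ η : IrrCharacter G, if charDegree (η : G → ℂ) = d then c η else 0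

theorem cnt_eq_zero {c : IrrCharacter G → ℕ} {d : ℕ}
    (h : ∀ η : IrrCharacter G, charDegree (η : G → ℂ) = d → c η = 0) : cnt c d = 0 := by
  classical
  unfold cnt
  refine Finset.sum_eq_zero fun η _ => ?_
  split_ifs with h1
  · exact h η h1
  · rfl

theorem cnt_pos {c : IrrCharacter G → ℕ} {d : ℕ} {η : IrrCharacter G}
    (hd : charDegree (η : G → ℂ) = d) (h : c η ≠ 0) : 0 < cnt c d := by
  classical
  unfold cnt
  refine lt_of_lt_of_le (Nat.pos_of_ne_zero h) ?_
  have h1 := Finset.single_le_sum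
    (f := fun η : IrrCharacter G => if charDegree (η : G → ℂ) = d then c η else 0)
    (fun η _ => Nat.zero_le _) (Finset.mem_univ η)
  simpa [hd] using h1

theorem sum_split {m n : ℕ} (hm : 1 < m) (hmn : m < n)
    (hcd : ∀ χ : G → ℂ, IsIrrCharacter G χ →
      charDegree χ = 1 ∨ charDegree χ = m ∨ charDegree χ = n) (c : IrrCharacter G → ℕ) :
    ∑ η : IrrCharacter G, c η * charDegree (η : G → ℂ) = cnt c 1 + m * cnt c m + n * cnt c n := by
  classical
  unfold cnt
  rw [Finset.mul_sum, Finset.mul_sum, ← Finset.sum_add_distrib, ← Finset.sum_add_distrib]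
  refine Finset.sum_congr rfl fun η _ => ?_
  rcases hcd η η.2 with h | h | h
  · rw [h, if_pos rfl, if_neg (by omega), if_neg (by omega)]; ring
  · rw [h, if_neg (by omega), if_pos rfl, if_neg (by omega)]; ring
  · rw [h, if_neg (by omega), if_neg (by omega), if_pos rfl]; ring

end count

/-- The main configuration. -/
theorem false_of_faithful [Finite G] {m n : ℕ} (hm : 1 < m) (hmn : m < n) (hcop : m.Coprime n)
    (hcd : ∀ χ : G → ℂ, IsIrrCharacter G χ →
      charDegree χ = 1 ∨ charDegree χ = m ∨ charDegree χ = n)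
    (hfaith : ∀ χ : G → ℂ, IsIrrCharacter G χ → charDegree χ ≠ 1 → ∀ x, χ x = χ 1 → x = 1)
    {χ₀ ψ₀ : G → ℂ} (hχ₀ : IsIrrCharacter G χ₀) (hχ₀m : charDegree χ₀ = m)
    (hψ₀ : IsIrrCharacter G ψ₀) (hψ₀n : charDegree ψ₀ = n) : False := by
  classical
  have := Fintype.ofFinite G
  have := finite_irr (G := G)
  have := Fintype.ofFinite (IrrCharacter G)
  -- products of characters of degree `m`
  have hL2 : ∀ α χ ψ : G → ℂ, IsIrrCharacter G α → IsIrrCharacter G χ → IsIrrCharacter G ψ →
      charDegree α = m → charDegree χ = m → charDegree ψ = n → classInner (α * cc χ) ψ ≠ 0 →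
      ∃ l : G → ℂ, IsIrrCharacter G l ∧ charDegree l = 1 ∧ α = l * χ := by
    intro α χ ψ hα hχ hψ hαm hχm hψn hne
    have hchar : IsCharacter G (α * cc χ) :=
      isCharacter_mul (isIrr_isCharacter hα) (isIrr_isCharacter (isIrr_cc hχ))
    obtain ⟨c, hc, hc'⟩ := CharDeep.CliffordCorr.exists_nat_coeffs hchar
    have h1 := degree_eq_sum hc
    rw [Pi.mul_apply, irr_one_eq_charDegree hα, irr_one_eq_charDegree (isIrr_cc hχ),
      charDegree_cc hχ, hαm, hχm, ← Nat.cast_mul, Nat.cast_inj, sum_split hm hmn hcd] at h1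
    by_cases h0 : cnt c 1 = 0
    · exfalso
      rw [h0, zero_add] at h1
      have h2 : 0 < cnt c n := cnt_pos (η := ⟨ψ, hψ⟩) hψn (by
        intro h3
        apply hne
        have := hc' ⟨ψ, hψ⟩
        rw [h3] at this
        simpa using this)
      have h3 : m ∣ n * cnt c n := by
        have h4 : m ∣ m * cnt c m + n * cnt c n := h1 ▸ Dvd.intro _ rfl
        exact (Nat.dvd_add_right (Dvd.intro _ rfl)).1 h4
      have h4 : m ∣ cnt c n := hcop.dvd_of_dvd_mul_left h3
      have h5 : m ≤ cnt c n := Nat.le_of_dvd h2 h4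
      nlinarith [Nat.mul_le_mul_left n h5, Nat.zero_le (m * cnt c m)]
    · have h2 : ∃ η : IrrCharacter G, charDegree (η : G → ℂ) = 1 ∧ c η ≠ 0 := by
        by_contra hcon
        push Not at hcon
        exact h0 (cnt_eq_zero hcon)
      obtain ⟨l, hl, hcl⟩ := h2
      refine ⟨l, l.2, hl, ?_⟩
      have h3 : classInner (α * cc χ) (l : G → ℂ) ≠ 0 := by
        rw [hc' l]; exact_mod_cast hcl
      rw [classInner_mul, cc_cc] at h3
      by_contra hne'
      apply h3
      refine classInner_irr_ne hα ?_ ?_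
      · rw [mul_comm]; exact isIrr_mul_linear hχ l.2 hl
      · rw [mul_comm]; exact hne'
  -- some product of two characters of degree `m` has a constituent of degree `n`
  have hex : ∃ α β ψ : G → ℂ, IsIrrCharacter G α ∧ IsIrrCharacter G β ∧ IsIrrCharacter G ψ ∧
      charDegree α = m ∧ charDegree β = m ∧ charDegree ψ = n ∧ classInner (α * β) ψ ≠ 0 := by
    by_contra hcon
    push Not at hcon
    obtain ⟨k, ρ, hρ, hρ1, hρk⟩ := exists_rep (isIrr_isCharacter hχ₀)
    have hinj : Function.Injective ρ := by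
      rw [injective_iff_map_eq_one]
      intro a ha
      exact hfaith χ₀ hχ₀ (by omega) a ((hρk a).2 ha)
    obtain ⟨i, -, hi⟩ := Cfsg.Agent.S0168.result ρ hinj ψ₀ hψ₀
    have hpow : ∀ i : ℕ, IsCharacter G (χ₀ ^ i) ∧ ∀ η : G → ℂ, IsIrrCharacter G η →
        classInner (χ₀ ^ i) η ≠ 0 → charDegree η ≠ n := by
      intro i
      induction i with
      | zero =>
        rw [pow_zero]
        refine ⟨isCharacter_one, fun η hη h1 h2 => h1 ?_⟩
        apply classInner_eq_zero_of_degree isIrr_one hη
        rw [h2, show charDegree (1 : G → ℂ) = 1 from charDegree_of_eq (by simp)]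
        omega
      | succ i ih =>
        obtain ⟨ih1, ih2⟩ := ih
        rw [pow_succ]
        refine ⟨isCharacter_mul ih1 (isIrr_isCharacter hχ₀), fun η hη h1 h2 => h1 ?_⟩
        obtain ⟨c, hc, hc'⟩ := CharDeep.CliffordCorr.exists_nat_coeffs ih1
        have h3 : χ₀ ^ i * χ₀ = ∑ θ : IrrCharacter G, (c θ : ℂ) • ((θ : G → ℂ) * χ₀) := by
          conv_lhs => rw [hc]
          rw [Finset.sum_mul]
          exact Finset.sum_congr rfl fun θ _ => smul_mul_assoc _ _ _
        rw [h3, classInner_sum_left]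
        refine Finset.sum_eq_zero fun θ _ => ?_
        rw [classInner_smul_left]
        by_cases h0 : c θ = 0
        · rw [h0]; simp
        · have h4 := ih2 θ θ.2 (by rw [hc' θ]; exact_mod_cast h0)
          rcases hcd θ θ.2 with h | h | h
          · rw [classInner_eq_zero_of_degree (isIrr_mul_linear hχ₀ θ.2 h) hη (by
              rw [charDegree_mul hχ₀ θ.2, h, hχ₀m, h2]
              omega), mul_zero]
          · rw [hcon θ χ₀ η θ.2 hχ₀ hη h hχ₀m h2, mul_zero]
          · exact absurd h h4
    have h5 : (fun g => ρ.character g ^ i) = χ₀ ^ i := by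
      rw [hρ]; rfl
    rw [h5] at hi
    exact (hpow i).2 ψ₀ hψ₀ hi hψ₀n
  obtain ⟨α, β, ψ, hα, hβ, hψ, hαm, hβm, hψn, hne⟩ := hex
  -- `α = l * cc β`
  obtain ⟨l, hl, hl1, hαl⟩ := hL2 α (cc β) ψ hα (isIrr_cc hβ) hψ hαm
    (by rw [charDegree_cc hβ, hβm]) hψn (by rwa [cc_cc])
  -- `ψ' = cc l * ψ` is a constituent of `cc β * β`
  have hψ' : IsIrrCharacter G (cc l * ψ) := isIrr_mul_linear hψ (isIrr_cc hl) (by rw [charDegree_cc hl, hl1])
  have hψ'n : charDegree (cc l * ψ) = n := by
    rw [charDegree_mul hψ (isIrr_cc hl), charDegree_cc hl, hl1, hψn, one_mul]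
  set ψ' := cc l * ψ with hψ'def
  have hne' : classInner (cc β * β) ψ' ≠ 0 := by
    rw [hαl] at hne
    rw [hψ'def, ← classInner_mul']
    rwa [← mul_assoc]
  -- let `χ = cc β`; `χ` is a constituent of `χ * ψ'`
  set χ := cc β with hχdef
  have hχ : IsIrrCharacter G χ := isIrr_cc hβ
  have hχm : charDegree χ = m := by rw [hχdef, charDegree_cc hβ, hβm]
  have hβχ : β = cc χ := by rw [hχdef, cc_cc]
  rw [hβχ] at hne'
  have hchar : IsCharacter G (χ * ψ') := isCharacter_mul (isIrr_isCharacter hχ) (isIrr_isCharacter hψ')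
  obtain ⟨c, hc, hc'⟩ := CharDeep.CliffordCorr.exists_nat_coeffs hchar
  have hswap : ∀ η : G → ℂ, classInner (χ * ψ') η ≠ 0 → classInner (η * cc χ) ψ' ≠ 0 := by
    intro η h1 h2
    apply h1
    rw [classInner_mul', ← classInner_conj_symm, mul_comm (cc χ) η, h2, map_zero]
  have hχc : classInner (χ * ψ') χ ≠ 0 := by
    rw [classInner_mul', ← classInner_conj_symm, mul_comm (cc χ) χ]
    exact (map_ne_zero _).2 hne'
  have hcount := degree_eq_sum hc
  rw [Pi.mul_apply, irr_one_eq_charDegree hχ, irr_one_eq_charDegree hψ', hχm, hψ'n,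
    ← Nat.cast_mul, Nat.cast_inj, sum_split hm hmn hcd] at hcount
  have h1 : cnt c 1 = 0 := by
    apply cnt_eq_zero
    intro η hη
    have h2 : classInner (χ * ψ') (η : G → ℂ) = 0 := by
      rw [mul_comm, classInner_mul]
      apply classInner_eq_zero_of_degree hψ'
      · rw [mul_comm]; exact isIrr_mul_linear (isIrr_cc hχ) η.2 hη
      · rw [charDegree_mul η.2 (isIrr_cc hχ), charDegree_cc hχ, hη, hχm, hψ'n]
        omega
    rw [hc' η] at h2
    exact_mod_cast h2
  have h2 : 0 < cnt c m := cnt_pos (η := ⟨χ, hχ⟩) hχm (by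
    intro h3
    apply hχc
    have := hc' ⟨χ, hχ⟩
    rw [h3] at this
    simpa using this)
  rw [h1, zero_add] at hcount
  have h3 : n ∣ cnt c m := by
    have h4 : n ∣ m * cnt c m + n * cnt c n := hcount ▸ Dvd.intro_left _ rfl
    exact hcop.symm.dvd_of_dvd_mul_left ((Nat.dvd_add_left (Dvd.intro _ rfl)).1 h4)
  have h4 : n ≤ cnt c m := Nat.le_of_dvd h2 h3
  have h5 : cnt c n = 0 ∧ cnt c m = n := by
    have h6 : m * n ≤ m * cnt c m := Nat.mul_le_mul_left m h4
    constructor
    · by_contra h7
      have : 0 < n * cnt c n := Nat.mul_pos (by omega) (Nat.pos_of_ne_zero h7)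
      omega
    · refine le_antisymm ?_ h4
      by_contra h7
      push Not at h7
      have := Nat.mul_lt_mul_of_pos_left h7 (show 0 < m by omega)
      have h8 := Nat.zero_le (n * cnt c n)
      omega
  -- all constituents are multiples of `χ` by linear characters
  have hall : ∀ η : IrrCharacter G, c η ≠ 0 → charDegree (η : G → ℂ) = m ∧
      ∀ x ∈ commutator G, (η : G → ℂ) x = χ x := by
    intro η hη
    have hηm : charDegree (η : G → ℂ) = m := by
      rcases hcd η η.2 with h | h | h
      · exact absurd h1 (cnt_pos h hη).ne'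
      · exact h
      · exact absurd h5.1 (cnt_pos h hη).ne'
    refine ⟨hηm, fun x hx => ?_⟩
    obtain ⟨l', hl', hl'1, hηl⟩ := hL2 η χ ψ' η.2 hχ hψ' hηm hχm hψ'n (hswap η (by
      rw [hc' η]; exact_mod_cast hη))
    obtain ⟨f, rfl⟩ := exists_hom_of_isIrrCharacter hl'
      (by rw [irr_one_eq_charDegree hl', hl'1, Nat.cast_one])
    have h6 : f x = 1 := Abelianization.commutator_subset_ker f hx
    rw [hηl, Pi.mul_apply, h6, Units.val_one, one_mul]
  have hval : ∀ x ∈ commutator G, χ x * ψ' x = n * χ x := by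
    intro x hx
    have h6 := apply_eq_sum hc x
    rw [Pi.mul_apply] at h6
    rw [h6]
    have h7 : (n : ℂ) = ∑ η : IrrCharacter G, (c η : ℂ) := by
      rw [← h5.2]
      unfold cnt
      push_cast
      refine Finset.sum_congr rfl fun η _ => ?_
      by_cases h0 : c η = 0
      · rw [h0]; simp
      · rw [if_pos (hall η h0).1]
    rw [h7, Finset.sum_mul]
    refine Finset.sum_congr rfl fun η _ => ?_
    by_cases h0 : c η = 0
    · rw [h0]; simp
    · rw [(hall η h0).2 x hx]
  have hvan : ∀ x ∈ commutator G, x ≠ 1 → χ x = 0 := by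
    intro x hx hx1
    by_contra hne
    apply hx1
    apply hfaith ψ' hψ' (by omega)
    rw [irr_one_eq_charDegree hψ', hψ'n]
    have h6 := hval x hx
    rw [mul_comm] at h6
    exact mul_right_cancel₀ hne h6
  -- `G'` is nontrivial
  have hG' : ∃ x ∈ commutator G, χ x ≠ χ 1 := by
    by_contra hcon
    push Not at hcon
    have h6 : commutator G = ⊥ := by
      rw [eq_bot_iff]
      intro x hx
      exact mem_bot.2 (hfaith χ hχ (by omega) x (hcon x hx))
    have h7 : charDegree χ = 1 := by
      apply charDegree_of_eq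
      rw [H597.Taketa.irr_apply_one_of_comm hχ, Nat.cast_one]
      intro a b
      have h8 : ⁅a, b⁆ ∈ commutator G := commutator_mem_commutator (mem_top a) (mem_top b)
      rw [h6, mem_bot] at h8
      exact commutatorElement_eq_one_iff_mul_comm.1 h8
    omega
  have h6 := sum_apply_eq_zero (commutator G) hχ hG'
  rw [Finset.sum_eq_single (1 : commutator G)] at h6
  · exact isIrr_apply_one_ne_zero hχ h6
  · intro b _ hb
    exact hvan b b.2 (fun h => hb (Subtype.ext h))
  · intro h; exact absurd (Finset.mem_univ _) h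

end Cfsg.Agent.H597.ThreeDegC
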