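import Cfsg.Agent.H597.ThreeDegB
import Cfsg.Agent.H597.ThreeDegC
set_option linter.all false

/-!
# Groups with at most three character degrees are solvable
-/

set_option autoImplicit false

namespace Cfsg.Agent.H597.ThreeDegD

open Cfsg
open Cfsg.Agent.Characters.Core Cfsg.Agent.Characters.Clifford Cfsg.Agent.Characters.Linear
open Cfsg.Agent.H597.Base Cfsg.Agent.H597.Degrees Cfsg.Agent.H597.Taketa
open Cfsg.Agent.H597.ThreeDegA Cfsg.Agent.H597.ThreeDegB Cfsg.Agent.H597.FrobA
open Cfsg.Agent.Blocks.Basic (charDegree_of_eq irr_one_eq_charDegree charDegree_pos)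
open Subgroup
open scoped commutatorElement ComplexConjugate

universe u
variable {G : Type u} [Group G]

theorem charDegree_comp {Q : Type u} [Group Q] (f : G →* Q) (χ : Q → ℂ) :
    charDegree (χ ∘ f) = charDegree χ := by
  rw [Blocks.Basic.charDegree_def, Blocks.Basic.charDegree_def, Function.comp_apply, map_one]

theorem isSolvable_of_derived {k : ℕ} (h : derivedSeries G k = ⊥) : Group.IsSolvable G :=
  (Group.isSolvable_def G).2 ⟨k, h⟩

/-- `χ(1) = 1, m, n`. -/
def CD3 (G : Type u) [Group G] (m n : ℕ) : Prop :=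
  ∀ χ : G → ℂ, IsIrrCharacter G χ → charDegree χ = 1 ∨ charDegree χ = m ∨ charDegree χ = n

theorem CD3.quotient {m n : ℕ} (h : CD3 G m n) (L : Subgroup G) [L.Normal] : CD3 (G ⧸ L) m n := by
  intro χ hχ
  have h1 := h (χ ∘ QuotientGroup.mk' L) (isIrr_comp _ (QuotientGroup.mk'_surjective L) hχ)
  rwa [charDegree_comp] at h1

/-- The characters not trivial on a nonsolvable minimal normal subgroup do not all have the same
degree. -/
theorem not_same_degree [Finite G] (M : Subgroup G) [M.Normal] (hM : ¬ Group.IsSolvable M)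
    (hmin : ∀ L : Subgroup G, L.Normal → L ≠ ⊥ → M ≤ L) (d : ℕ)
    (hd : ∀ χ : G → ℂ, IsIrrCharacter G χ → (∃ x ∈ M, χ x ≠ χ 1) → charDegree χ = d) : False := by
  classical
  have hd0 : ∀ p : ℕ, p.Prime → p ∣ d → ¬ p ∣ Nat.card M := by
    intro p hp hpd
    have := Fact.mk hp
    have h1 := H597.RelThompson.card_Op_coprime p hp M (fun χ hχ hx => by
      obtain ⟨x, hx, hne⟩ := hx
      rw [hd χ hχ ⟨x, commutator_le_left M M hx, hne⟩]
      exact hpd)
    by_cases h0 : H597.RelThompson.Op p M = ⊥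
    · exfalso
      apply hM
      obtain ⟨k, hk⟩ := H597.RelThompson.relIndex_Op p M
      rw [h0, relIndex_bot_left] at hk
      have : Group.IsNilpotent M := (IsPGroup.of_card (p := p) (n := k) hk).isNilpotent
      infer_instance
    · have h2 := hmin _ inferInstance h0
      intro hpM
      exact (hp.coprime_iff_not_dvd.1 h1.symm) (hpM.trans (card_dvd_of_le h2))
  apply hM
  have hlin : ∀ ψ : M → ℂ, IsIrrCharacter M ψ → charDegree ψ = 1 := by
    intro ψ hψ
    obtain ⟨χ, hχ, ⟨c, hc, -⟩, hker⟩ := exists_over M hψ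
    by_cases hx : ∃ x ∈ M, χ x ≠ χ 1
    · have h1 := hd χ hχ hx
      rw [h1] at hc
      by_contra h2
      obtain ⟨p, hp, hpd⟩ := Nat.exists_prime_and_dvd h2
      exact hd0 p hp (hpd.trans (hc ▸ Dvd.intro _ rfl)) (hpd.trans (charDegree_dvd_card hψ))
    · push Not at hx
      exact H597.RelThompson.charDegree_eq_one hψ fun k _ => hker k (hx k k.2)
  exact Group.isSolvable_of_comm (comm_of_forall_one hlin)

theorem solvable_aux (k : ℕ) : ∀ (G : Type u) [Group G] [Finite G], Nat.card G = k →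
    ∀ m n, CD3 G m n → Group.IsSolvable G := by
  classical
  induction k using Nat.strong_induction_on with
  | _ k ih =>
  intro G _ _ hk m n hcd
  have := Fintype.ofFinite G
  -- quotients are solvable
  have hquot : ∀ L : Subgroup G, ∀ _ : L.Normal, L ≠ ⊥ → Group.IsSolvable (G ⧸ L) := by
    intro L hL hne
    refine ih _ ?_ (G ⧸ L) rfl m n (hcd.quotient L)
    rw [← hk, ← index_eq_card, ← L.index_mul_card]
    have h1 : 1 < Nat.card L := (one_lt_card_iff_ne_bot L).2 hne
    have h2 : 0 < L.index := Nat.pos_of_ne_zero index_ne_zero_of_finite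
    nlinarith
  -- both degrees occur
  by_cases hm : ∀ χ : G → ℂ, IsIrrCharacter G χ → charDegree χ = 1 ∨ charDegree χ = n
  · exact isSolvable_of_derived (derived_two n hm)
  by_cases hn : ∀ χ : G → ℂ, IsIrrCharacter G χ → charDegree χ = 1 ∨ charDegree χ = m
  · exact isSolvable_of_derived (derived_two m hn)
  push Not at hm hn
  obtain ⟨χm, hχm, hm1, hmn⟩ := hm
  obtain ⟨χn, hχn, hn1, hnm⟩ := hn
  have hχmm : charDegree χm = m := by
    rcases hcd χm hχm with h | h | h
    · exact absurd h hm1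
    · exact h
    · exact absurd h hmn
  have hχnn : charDegree χn = n := by
    rcases hcd χn hχn with h | h | h
    · exact absurd h hn1
    · exact absurd h hnm
    · exact h
  have hmpos : 1 < m := by
    have := charDegree_pos hχm
    omega
  have hnpos : 1 < n := by
    have := charDegree_pos hχn
    omega
  have hne : m ≠ n := by omega
  by_cases hcop : m.Coprime n
  swap
  · -- a common prime divisor
    obtain ⟨p, hp, hpm, hpn⟩ := Nat.Prime.not_coprime_iff_dvd.1 hcop
    obtain ⟨N, hN, hNp, j, hNj⟩ := Cfsg.Agent.S4456.result (G := G) p hp (fun χ hχ => by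
      rcases hcd χ χ.2 with h | h | h
      · exact absurd h hχ
      · rw [h]; exact hpm
      · rw [h]; exact hpn)
    have hNlt : Nat.card N < k := by
      rw [← hk]
      refine lt_of_le_of_ne (Nat.le_of_dvd Nat.card_pos (card_subgroup_dvd_card N)) fun h => ?_
      have h1 : p ∣ Nat.card G := (hpm.trans (hχmm ▸ dvd_rfl)).trans (charDegree_dvd_card hχm)
      rw [← h] at h1
      exact (hp.coprime_iff_not_dvd.1 hNp.symm) h1
    have hNs : Group.IsSolvable N := by
      refine ih _ hNlt N rfl (ordCompl[p] m) (ordCompl[p] n) ?_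
      intro ψ hψ
      obtain ⟨χ, hχ, ⟨c, hc, hc'⟩, -⟩ := exists_over N hψ
      rw [hNj] at hc'
      obtain ⟨i, -, rfl⟩ := (Nat.dvd_prime_pow hp).1 hc'
      have h1 : ¬ p ∣ charDegree ψ := fun h =>
        (hp.coprime_iff_not_dvd.1 hNp.symm) (h.trans (charDegree_dvd_card hψ))
      have h2 : ordCompl[p] (charDegree χ) = charDegree ψ := by
        rw [hc, Nat.ordCompl_mul, Nat.ordCompl_self_pow hp, mul_one,
          Nat.factorization_eq_zero_of_not_dvd h1, pow_zero, Nat.div_one]
      rcases hcd χ hχ with h | h | h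
      · left
        exact Nat.dvd_one.1 (h ▸ hc ▸ Dvd.intro _ rfl)
      · right; left; rw [← h2, h]
      · right; right; rw [← h2, h]
    have hQ : Group.IsSolvable (G ⧸ N) := by
      have := Fact.mk hp
      have : Group.IsNilpotent (G ⧸ N) :=
        (IsPGroup.of_card (p := p) (n := j) (by rw [← index_eq_card]; exact hNj)).isNilpotent
      infer_instance
    exact (Group.isSolvable_iff_subgroup_quotient N).2 ⟨hNs, hQ⟩
  -- a minimal normal subgroup
  have hnt : ¬ ∀ a b : G, a * b = b * a := fun h => hm1 (by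
    apply charDegree_of_eq
    rw [irr_apply_one_of_comm hχm h, Nat.cast_one])
  have htop : (⊤ : Subgroup G) ≠ ⊥ := by
    intro h
    apply hnt
    intro a b
    have ha : a ∈ (⊥ : Subgroup G) := h ▸ mem_top a
    rw [mem_bot] at ha
    rw [ha, one_mul, mul_one]
  obtain ⟨M, hMmin⟩ := (Set.toFinite {L : Subgroup G | L.Normal ∧ L ≠ ⊥}).exists_minimal
    ⟨⊤, inferInstance, htop⟩
  have hMn : M.Normal := hMmin.prop.1
  have hMne : M ≠ ⊥ := hMmin.prop.2
  have hMmin' : ∀ L : Subgroup G, L.Normal → L ≠ ⊥ → L ≤ M → L = M := fun L hL hL' hle =>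
    le_antisymm hle (hMmin.le_of_le ⟨hL, hL'⟩ hle)
  by_cases hMs : Group.IsSolvable M
  · exact (Group.isSolvable_iff_subgroup_quotient M).2 ⟨hMs, hquot M hMn hMne⟩
  exfalso
  have hMM : ⁅M, M⁆ = M := by
    apply hMmin' _ inferInstance _ (commutator_le_left M M)
    intro h
    apply hMs
    apply Group.isSolvable_of_comm
    intro a b
    apply Subtype.ext
    have h1 : ⁅(a : G), (b : G)⁆ ∈ ⁅M, M⁆ := commutator_mem_commutator a.2 b.2
    rw [h, mem_bot] at h1
    exact commutatorElement_eq_one_iff_mul_comm.1 h1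
  have hMle : ∀ L : Subgroup G, L.Normal → L ≠ ⊥ → M ≤ L := by
    intro L hL hLne
    by_cases h : L ⊓ M = ⊥
    · exfalso
      apply hMs
      have := hquot L hL hLne
      refine Group.isSolvable_of_isSolvable_injective
        (f := (QuotientGroup.mk' L).comp M.subtype) ?_
      rw [injective_iff_map_eq_one]
      intro a ha
      have h1 : (a : G) ∈ L := (QuotientGroup.eq_one_iff _).1 ha
      have h2 : (a : G) ∈ L ⊓ M := ⟨h1, a.2⟩
      rw [h, mem_bot] at h2
      exact Subtype.ext h2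
    · have h1 := hMmin' (L ⊓ M) inferInstance h inf_le_right
      rw [← h1]; exact inf_le_left
  -- relabel the degrees
  have hlabel : ∀ f, f ≠ 1 → (∃ χ : G → ℂ, IsIrrCharacter G χ ∧ charDegree χ = f) →
      ∃ g, 1 < g ∧ f.Coprime g ∧ (∃ χ : G → ℂ, IsIrrCharacter G χ ∧ charDegree χ = g) ∧
        CD3 G f g := by
    rintro f hf ⟨χ₀, hχ₀, rfl⟩
    rcases hcd χ₀ hχ₀ with h | h | h
    · exact absurd h hf
    · rw [h]
      exact ⟨n, hnpos, hcop, ⟨χn, hχn, hχnn⟩, hcd⟩
    · rw [h]
      exact ⟨m, hmpos, hcop.symm, ⟨χm, hχm, hχmm⟩, fun χ hχ => (hcd χ hχ).imp_right Or.symm⟩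
  by_cases hGM : commutator G ≤ M
  · -- all nonlinear characters are faithful
    have hfaith : ∀ χ : G → ℂ, IsIrrCharacter G χ → charDegree χ ≠ 1 →
        ∀ x, χ x = χ 1 → x = 1 := by
      intro χ hχ hχ1 x hx
      by_contra hx1
      apply hχ1
      apply H597.RelThompson.charDegree_eq_one hχ
      intro y hy
      have h1 : ker (isIrr_isCharacter hχ) ≠ ⊥ := by
        intro h
        have h2 : x ∈ ker (isIrr_isCharacter hχ) := hx
        rw [h, mem_bot] at h2
        exact hx1 h2
      exact hMle _ inferInstance h1 (hGM hy)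
    rcases lt_or_gt_of_ne hne with hlt | hlt
    · exact H597.ThreeDegC.false_of_faithful hmpos hlt hcop hcd hfaith hχm hχmm hχn hχnn
    · exact H597.ThreeDegC.false_of_faithful hnpos hlt hcop.symm
        (fun χ hχ => (hcd χ hχ).imp_right Or.symm) hfaith hχn hχnn hχm hχmm
  -- `G / M` is not abelian
  obtain ⟨K, hKmax⟩ := (Set.toFinite
    {K : Subgroup G | K.Normal ∧ M ≤ K ∧ ¬ commutator G ≤ K}).exists_maximal
    ⟨M, hMn, le_rfl, hGM⟩
  have hKn : K.Normal := hKmax.prop.1
  have hMK : M ≤ K := hKmax.prop.2.1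
  have hKne : K ≠ ⊥ := fun h => hMne (le_bot_iff.1 (h ▸ hMK))
  obtain ⟨r, hr, ⟨j, hj⟩ | ⟨N, hN, hF⟩⟩ := dichotomy_quot K (hquot K hKn hKne) hKmax.prop.2.2 (by
    intro L hL hKL
    by_contra hcon
    exact hKL.not_ge (hKmax.le_of_ge (y := L) ⟨hL, hMK.trans hKL.le, hcon⟩ hKL.le))
  · -- a nonlinear character of `G / K`
    have hex : ∃ θ : (G ⧸ K) → ℂ, IsIrrCharacter (G ⧸ K) θ ∧ charDegree θ ≠ 1 := by
      by_contra hcon
      push Not at hcon
      have h1 := commutator_eq_bot hcon
      rw [← derivedSeries_one, ← map_derivedSeries_eq (QuotientGroup.mk'_surjective K) 1,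
        Subgroup.map_eq_bot_iff, QuotientGroup.ker_mk', derivedSeries_one] at h1
      exact hKmax.prop.2.2 h1
    obtain ⟨θ, hθ, hθ1⟩ := hex
    have hβ : IsIrrCharacter G (θ ∘ QuotientGroup.mk' K) :=
      isIrr_comp _ (QuotientGroup.mk'_surjective K) hθ
    have hβd : charDegree (θ ∘ QuotientGroup.mk' K) = charDegree θ := charDegree_comp _ _
    obtain ⟨g, hg1, hfg, ⟨χ, hχ, hχg⟩, hcd'⟩ := hlabel (charDegree θ) hθ1 ⟨_, hβ, hβd⟩
    have hdvd : charDegree θ ∣ r ^ j := by
      rw [← hj, index_eq_card]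
      exact charDegree_dvd_card hθ
    obtain ⟨i, -, hi⟩ := (Nat.dvd_prime_pow hr).1 hdvd
    have hi0 : i ≠ 0 := by rintro rfl; exact hθ1 hi
    have hrg : r.Coprime g := by
      rw [hi] at hfg
      exact Nat.Coprime.coprime_dvd_left (dvd_pow_self r hi0) hfg
    have hχK := isIrr_restrict_of_coprime K hχ (by
      rw [hj, hχg]
      exact Nat.Coprime.pow_left _ hrg)
    have h2 := H597.FrobC.isIrr_mul_of_restrict K hχ hχK hβ (fun x hx => by
      rw [Function.comp_apply, Function.comp_apply, map_one]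
      congr 1
      exact (QuotientGroup.eq_one_iff x).2 hx)
    have h3 := H597.FrobC.charDegree_mul hχ hβ
    rw [hβd, hχg] at h3
    have hf1 : 1 < charDegree θ := by
      have := charDegree_pos hθ
      omega
    rcases hcd' _ h2 with h | h | h
    · rw [h3] at h; nlinarith
    · rw [h3] at h; nlinarith
    · rw [h3] at h; nlinarith
  · obtain ⟨x, hxN, hxK⟩ := SetLike.exists_of_lt hF.lt
    obtain ⟨χ₁, hχ₁, hd₁⟩ := H597.FrobB.exists_degree_mul hF (ψ := 1) isIrr_one (n₀ := ⟨x, hxN⟩)
      hxK one_ne_zero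
    have h1 : charDegree (1 : N → ℂ) = 1 := charDegree_of_eq (by simp)
    rw [h1, mul_one] at hd₁
    have hidx1 : N.index ≠ 1 := fun h => hF.ne_top (index_eq_one.1 h)
    obtain ⟨g, hg1, hfg, -, hcd'⟩ := hlabel N.index hidx1 ⟨χ₁, hχ₁, hd₁⟩
    obtain ⟨j, hj⟩ := hF.rel
    have hKN : K.subgroupOf N ≠ ⊤ := by
      rw [Ne, subgroupOf_eq_top]
      exact hF.lt.not_ge
    have hrψ : ∀ ψ : N → ℂ, IsIrrCharacter N ψ → charDegree ψ = 1 ∨ r ∣ charDegree ψ := by
      intro ψ hψ
      by_cases hv : ∀ n : N, (n : G) ∉ K → ψ n = 0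
      · right
        exact H597.FrobC.dvd_of_vanish hr (K.subgroupOf N) hj hKN hψ
          (fun n hn => hv n (fun h => hn (mem_subgroupOf.2 h)))
      · left
        push Not at hv
        obtain ⟨y, hy, hyne⟩ := hv
        obtain ⟨χ, hχ, hd⟩ := H597.FrobB.exists_degree_mul hF hψ hy hyne
        have hpos := charDegree_pos hψ
        rcases hcd' χ hχ with h | h | h
        · rw [hd] at h
          exact Nat.dvd_one.1 (h ▸ Dvd.intro_left _ rfl)
        · rw [hd] at h
          have h0 : 0 < N.index := Nat.pos_of_ne_zero index_ne_zero_of_finite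
          nlinarith
        · exfalso
          apply hidx1
          rw [hd] at h
          have h2 : N.index ∣ g := h ▸ Dvd.intro _ rfl
          exact Nat.Coprime.eq_one_of_dvd hfg h2
    refine not_same_degree M hMs hMle g ?_
    rintro χ hχ ⟨y, hy, hyne⟩
    have hMN : M ≤ N := hMK.trans hF.lt.le
    have hyN : y ∈ ⁅N, N⁆ := by
      rw [← hMM] at hy
      exact commutator_mono hMN hMN hy
    obtain ⟨ψ, hψ, ⟨c, hc, -⟩, hψy⟩ := exists_under_ne N hχ (x := ⟨y, commutator_le_left N N hyN⟩) hyne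
    have h2 : charDegree ψ ≠ 1 := fun h1 => hψy
      (commutator_le_ker_of_linear hψ h1 _ ((H597.IndexP.mem_commutator_iff N).2 hyN))
    have h3 : r ∣ charDegree χ := by
      rw [hc]
      exact Dvd.dvd.mul_right ((hrψ ψ hψ).resolve_left h2) c
    rcases hcd' χ hχ with h | h | h
    · exact absurd (Nat.dvd_one.1 (h ▸ h3)) hr.one_lt.ne'
    · exact absurd (h ▸ h3) hF.idx
    · exact h

/-- Groups with at most three character degrees have derived length at most three. -/
theorem derived_three [Finite G] {m n : ℕ} (hcd : CD3 G m n) : derivedSeries G 3 = ⊥ :=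
  solvable_case (solvable_aux _ G rfl m n hcd) m n hcd

end Cfsg.Agent.H597.ThreeDegD
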