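import Cfsg.Agent.H657.IBrBlock
import Cfsg.Agent.Blocks.BlockKer
set_option linter.all false

/-!
# Brauer characters of `p'`-groups count invariants

`C` : for a finite group `P` of order prime to `p` and a representation `σ` of `P` over the residue
field, the sum of the values of the Brauer character is `#P` times the dimension of the
invariants.
-/

set_option autoImplicit false

namespace Cfsg.Agent.H597.BrInv

open Cfsg Cfsg.Agent.H657 IsLocalRing Module Cfsg.Agent.H608.BlockRank Polynomial

section field

variable {K : Type*} [Field K] {P : Type*} [Group P]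

theorem isIrr_one (σ : Representation K P (Fin 1 → K)) : σ.IsIrreducible := by
  refine { exists_pair_ne := ⟨⊥, ⊤, fun h => ?_⟩, eq_bot_or_eq_top := fun U => ?_ }
  · have : (⊥ : Submodule K (Fin 1 → K)) = ⊤ := congrArg Subrepresentation.toSubmodule h
    exact bot_ne_top this
  · have h1 : finrank K U.toSubmodule ≤ 1 := by
      have := Submodule.finrank_le U.toSubmodule
      simpa using this
    rcases Nat.le_one_iff_eq_zero_or_eq_one.1 h1 with h2 | h2
    · left
      exact Subrepresentation.toSubmodule_injective (Submodule.finrank_eq_zero.1 h2)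
    · right
      apply Subrepresentation.toSubmodule_injective
      exact Submodule.eq_top_of_finrank_eq (by rw [h2]; simp)

/-- An irreducible representation on which the norm element does not vanish is trivial. -/
theorem triv_of_norm_ne [Fintype P] {n : ℕ} (σ : Representation K P (Fin n → K))
    (hσ : σ.IsIrreducible) (h : ∑ g, σ g ≠ 0) : n = 1 ∧ ∀ g, σ g = 1 := by
  obtain ⟨w, hw⟩ : ∃ w, (∑ g, σ g) w ≠ 0 := by
    by_contra hcon
    push Not at hcon
    exact h (LinearMap.ext hcon)
  set v := (∑ g, σ g) w with hv
  have hinv : ∀ g, σ g v = v := by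
    intro g
    rw [hv, LinearMap.sum_apply, map_sum]
    refine Fintype.sum_equiv (Equiv.mulLeft g) _ _ fun x => ?_
    rw [Equiv.coe_mulLeft, map_mul, Module.End.mul_apply]
  let U : Subrepresentation σ :=
    { toSubmodule := K ∙ v
      apply_mem_toSubmodule := by
        intro g x hx
        obtain ⟨c, rfl⟩ := Submodule.mem_span_singleton.1 hx
        rw [map_smul, hinv]
        exact Submodule.smul_mem _ _ (Submodule.mem_span_singleton_self v) }
  have hU : U = ⊤ := by
    rcases hσ.eq_bot_or_eq_top U with h1 | h1
    · exfalso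
      have h2 : (K ∙ v) = ⊥ := congrArg Subrepresentation.toSubmodule h1
      exact hw (Submodule.span_singleton_eq_bot.1 h2)
    · exact h1
  have hU' : (K ∙ v) = ⊤ := congrArg Subrepresentation.toSubmodule hU
  constructor
  · have h1 := finrank_span_singleton (K := K) hw
    rw [hU', finrank_top] at h1
    simpa using h1
  · intro g
    refine LinearMap.ext fun x => ?_
    have hx : x ∈ (K ∙ v) := hU' ▸ Submodule.mem_top
    obtain ⟨c, rfl⟩ := Submodule.mem_span_singleton.1 hx
    rw [map_smul, hinv, Module.End.one_apply]

theorem sum_aux3 [Fintype P] [DecidableEq P] {U : Type*} [AddCommGroup U] [Module K U]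
    (ρ : Representation K P U) (d : K) :
    ∑ g, ((if g = 1 then (1 : K) else 0) + d) • ρ g = 1 + d • ∑ g, ρ g := by
  simp only [add_smul, Finset.sum_add_distrib, ite_smul, zero_smul, one_smul,
    Finset.sum_ite_eq', Finset.mem_univ, if_true, map_one, Finset.smul_sum]

theorem det_smul_proj {W : Type*} [AddCommGroup W] [Module K W] [FiniteDimensional K W]
    (U : Submodule K W) (f : W →ₗ[K] W) (t : K) (h1 : ∀ w ∈ U, f w = t • w)
    (h2 : ∀ w, f w - w ∈ U) : LinearMap.det f = t ^ finrank K U := by
  have h : U ≤ U.comap f := fun w hw => by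
    rw [Submodule.mem_comap, h1 w hw]
    exact U.smul_mem _ hw
  rw [LinearMap.det_eq_det_mul_det U f h]
  have e1 : f.restrict h = t • LinearMap.id := by
    ext w
    simp [h1 w w.2]
  have e2 : U.mapQ U f h = LinearMap.id := by
    ext w
    simp only [LinearMap.coe_comp, Function.comp_apply, Submodule.mkQ_apply, Submodule.mapQ_apply,
      LinearMap.id_comp]
    exact (Submodule.Quotient.eq U).2 (h2 w)
  rw [e1, e2, LinearMap.det_smul, LinearMap.det_id, LinearMap.det_id, mul_one, mul_one]

end field

attribute [local instance] Above.isAlgClosed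

variable {V : ValuationSubring ℂ} {P : Type*} [Group P]

theorem trace_one_one (K : Type*) [Field K] :
    LinearMap.trace K (Fin 1 → K) (1 : Module.End K (Fin 1 → K)) = 1 := by
  rw [LinearMap.trace_one]
  simp

/-- The trivial one-dimensional representation has constant trace `1`. -/
theorem triv_isIrrTrace : IsIrrTrace V P (fun _ => 1) := by
  refine ⟨1, Representation.trivial (ResidueField V) P (Fin 1 → ResidueField V), isIrr_one _, ?_⟩
  intro g
  have : Representation.trivial (ResidueField V) P (Fin 1 → ResidueField V) g = 1 := rfl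
  rw [this, trace_one_one]

/-- The trivial irreducible representation. -/
noncomputable def triv : IBr V P := ⟨fun _ => 1, triv_isIrrTrace⟩

theorem triv_of_trace {n : ℕ} (σ : Representation (ResidueField V) P (Fin n → ResidueField V))
    (hσ : σ.IsIrreducible) (h : ∀ g, LinearMap.trace (ResidueField V) _ (σ g) = 1) :
    n = 1 ∧ ∀ g, σ g = 1 := by
  obtain ⟨e, he⟩ := equiv_of_trace σ
    (Representation.trivial (ResidueField V) P (Fin 1 → ResidueField V)) hσ (isIrr_one _)
    (fun g => by
      rw [h]
      exact (trace_one_one _).symm)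
  constructor
  · have := e.finrank_eq
    simpa using this
  · intro g
    refine LinearMap.ext fun w => e.injective ?_
    rw [he]
    rfl

theorem bc_one {p : ℕ} [Fact p.Prime] [CharP (ResidueField V) p] {n : ℕ}
    (σ : Representation (ResidueField V) P (Fin n → ResidueField V)) (hn : n = 1) {g : P}
    (h : σ g = 1) : bc p σ g = 1 := by
  subst hn
  unfold bc
  rw [h]
  have h1 : LinearMap.charpoly (1 : Module.End (ResidueField V) (Fin 1 → ResidueField V)) =
      X - C 1 := by
    rw [LinearMap.charpoly_one]
    simp
  rw [h1, roots_X_sub_C, Multiset.map_singleton, Multiset.sum_singleton]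
  have h2 := lift_residue (V := V) (p := p) (z := 1) ⟨1, by
    have := (Fact.out : p.Prime).one_lt
    intro h
    exact absurd (Nat.le_of_dvd one_pos h) (by omega), by simp⟩
  simpa using h2

theorem isPRegular_of [Finite P] {p : ℕ} [Fact p.Prime] (hP : (Nat.card P).Coprime p) (g : P) :
    IsPRegular p g := by
  intro h
  have h1 : p ∣ Nat.card P := h.trans (orderOf_dvd_natCard g)
  exact (Fact.out : p.Prime).coprime_iff_not_dvd.1 hP.symm h1

theorem sum_irr [Fintype P] {χ : P → ℂ} (hχ : IsIrrCharacter P χ) (h : χ ≠ fun _ => 1) :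
    ∑ g, χ g = 0 := by
  have h1 := Characters.Core.classInner_irr_ne hχ (Characters.Core.isIrr_one (G := P)) h
  rw [Characters.Core.classInner_def] at h1
  have h2 := (mul_eq_zero.1 h1).resolve_left (inv_ne_zero Characters.Core.card_ne_zero_complex)
  simpa using h2

theorem eq_one_of_const [Fintype P] {χ : P → ℂ} (hχ : IsIrrCharacter P χ)
    (h : ∀ g, χ g = χ 1) : χ = fun _ => 1 := by
  by_contra hne
  have h1 := sum_irr hχ hne
  rw [Finset.sum_congr rfl fun g _ => h g, Finset.sum_const, Finset.card_univ, nsmul_eq_mul] at h1
  rcases mul_eq_zero.1 h1 with h2 | h2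
  · exact Fintype.card_ne_zero (Nat.cast_eq_zero.1 h2)
  · exact Characters.Core.isIrr_apply_one_ne_zero hχ h2

/-- The irreducible Brauer characters different from the trivial one sum to zero. -/
theorem sum_phi {M : Ideal AlgInt} {p : ℕ} (hM : IsPModular p M) (hV : Above M V) [Fintype P]
    (hP : (Fintype.card P).Coprime p) (i : IBr V P) (hi : i ≠ triv) : ∑ g, phi p i g = 0 := by
  have : Fact p.Prime := ⟨hM.1⟩
  have : CharP (ResidueField V) p := hV.charP hM
  have hP' : (Nat.card P).Coprime p := by rwa [Nat.card_eq_fintype_card]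
  have hreg : ∀ g : P, IsPRegular p g := isPRegular_of hP'
  have hpReg : ∀ θ : P → ℂ, pReg p θ = θ := fun θ => funext fun g => pReg_of (hreg g) θ
  let one : IrrCharacter P := ⟨fun _ => 1, Characters.Core.isIrr_one⟩
  have htriv : phi p (triv : IBr V P) = fun _ => 1 := by
    funext g
    obtain ⟨h1, h2⟩ := triv_of_trace (triv : IBr V P).rep (triv : IBr V P).rep_irr
      (fun g => (triv : IBr V P).trace_rep g)
    rw [phi_of _ (hreg g)]
    exact bc_one _ h1 (h2 g)
  obtain ⟨χ, hχ⟩ := exists_under hM hV i
  by_cases h1 : χ = one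
  · exfalso
    have hU : IsUnion M ({one} : Set (IrrCharacter P)) := by
      intro χ ψ h hχ
      rw [Set.mem_singleton_iff] at hχ ⊢
      subst hχ
      apply Subtype.ext
      funext g
      have h2 : ∀ g, (ψ : P → ℂ) g = (ψ : P → ℂ) 1 := fun g =>
        Blocks.BlockKer.apply_eq_of_sameBlock hM one.2 ψ.2 h ⊤ inferInstance (by
          rw [Subgroup.card_top]
          exact (Fact.out : p.Prime).coprime_iff_not_dvd.1 hP'.symm) (fun _ _ => rfl)
          (Subgroup.mem_top g)
      exact congrFun (eq_one_of_const ψ.2 h2) g
    have h2 := map_pReg_charSpan hM hV hU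
    have h3 : phi p i ∈ Submodule.span ℂ (phi p '' ibrUnder V ({one} : Set (IrrCharacter P))) :=
      Submodule.subset_span ⟨i, ⟨χ, h1, hχ⟩, rfl⟩
    rw [← h2] at h3
    obtain ⟨u, hu, hu'⟩ := h3
    rw [hpReg] at hu'
    subst hu'
    unfold charSpan at hu
    rw [Set.image_singleton] at hu
    obtain ⟨c, hc⟩ := Submodule.mem_span_singleton.1 hu
    have h4 : phi p i ∈ Submodule.span ℂ (phi p '' ({triv} : Set (IBr V P))) := by
      rw [Set.image_singleton, htriv]
      exact Submodule.mem_span_singleton.2 ⟨c, hc⟩
    exact (linearIndependent_phi (V := V) (G := P) (p := p)).notMem_span_image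
      (s := {triv}) (by simpa using hi) h4
  · have hU : IsUnion M ({χ | χ ≠ one} : Set (IrrCharacter P)) := by
      intro χ ψ h hχ h1
      subst h1
      apply hχ
      apply Subtype.ext
      have hMp : M.IsPrime := hM.2.1.isPrime
      have h2 : ∀ g, (χ : P → ℂ) g = (χ : P → ℂ) 1 := fun g =>
        Blocks.BlockKer.apply_eq_of_sameBlock hM one.2 χ.2 (Blocks.Basic.sameBlock_symm h) ⊤
          inferInstance (by
          rw [Subgroup.card_top]
          exact (Fact.out : p.Prime).coprime_iff_not_dvd.1 hP'.symm) (fun _ _ => rfl)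
          (Subgroup.mem_top g)
      exact eq_one_of_const χ.2 h2
    have h2 := map_pReg_charSpan hM hV hU
    have h3 : phi p i ∈ Submodule.span ℂ (phi p '' ibrUnder V ({χ | χ ≠ one} : Set (IrrCharacter P))) :=
      Submodule.subset_span ⟨i, ⟨χ, h1, hχ⟩, rfl⟩
    rw [← h2] at h3
    obtain ⟨u, hu, hu'⟩ := h3
    rw [hpReg] at hu'
    subst hu'
    refine Submodule.span_induction (p := fun θ _ => ∑ g, θ g = 0) ?_ ?_ ?_ ?_ hu
    · rintro _ ⟨ψ, hψ, rfl⟩
      exact sum_irr ψ.2 fun h => hψ (Subtype.ext h)
    · simp
    · intro x y _ _ hx hy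
      simp only [Pi.add_apply, Finset.sum_add_distrib, hx, hy, add_zero]
    · intro c x _ hx
      simp only [Pi.smul_apply, smul_eq_mul, ← Finset.mul_sum, hx, mul_zero]

/-- **Brauer characters of `p'`-groups count invariants.** -/
theorem C {M : Ideal AlgInt} {p : ℕ} (hM : IsPModular p M) (hV : Above M V)
    [Fintype P] (hP : (Fintype.card P).Coprime p)
    {W : Type*} [AddCommGroup W] [Module (ResidueField V) W] [FiniteDimensional (ResidueField V) W]
    (σ : Representation (ResidueField V) P W) :
    ∑ g, bc p σ g = (Fintype.card P : ℂ) * (Module.finrank (ResidueField V) σ.invariants : ℂ) := by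
  classical
  have : Fact p.Prime := ⟨hM.1⟩
  have : CharP (ResidueField V) p := hV.charP hM
  have hinf : Infinite (ResidueField V) := IsAlgClosed.instInfinite
  have hP' : (Nat.card P).Coprime p := by rwa [Nat.card_eq_fintype_card]
  have hreg : ∀ g : P, IsPRegular p g := isPRegular_of hP'
  have hc : (Fintype.card P : ResidueField V) ≠ 0 := by
    intro h
    have h1 := (CharP.cast_eq_zero_iff (ResidueField V) p _).1 h
    exact (Fact.out : p.Prime).coprime_iff_not_dvd.1 hP.symm h1
  obtain ⟨m, n, τ, hτ, hdet⟩ := Factors.exists_factors σ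
  have hdet' : ∀ a : P → ResidueField V, LinearMap.det (∑ g, a g • σ g) =
      ∏ i, LinearMap.det (∑ g, a g • τ i g) := by
    intro a
    have h1 := hdet (∑ g, MonoidAlgebra.single g (a g))
    simp only [map_sum, Representation.asAlgebraHom_single] at h1
    exact h1
  -- charpoly
  have hchar : ∀ g, LinearMap.charpoly (σ g) = ∏ i, LinearMap.charpoly (τ i g) := by
    intro g
    refine Polynomial.funext fun t => ?_
    rw [LinearMap.eval_charpoly, Polynomial.eval_prod]
    have h1 := hdet' (fun h => (if h = 1 then t else 0) - (if h = g then 1 else 0))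
    rw [sum_aux] at h1
    rw [h1]
    refine Finset.prod_congr rfl fun i _ => ?_
    rw [sum_aux, LinearMap.eval_charpoly]
  have hbc : ∀ g, bc p σ g = ∑ i, bc p (τ i) g := by
    intro g
    unfold bc
    rw [hchar, Polynomial.roots_prod _ _ (Finset.prod_ne_zero_iff.2 fun i _ =>
      (LinearMap.charpoly_monic _).ne_zero), Multiset.map_bind, Multiset.sum_bind]
    rfl
  -- the factors
  let idx : Fin m → IBr V P := fun i => ⟨fun g => LinearMap.trace (ResidueField V) _ (τ i g),
    n i, τ i, hτ i, fun g => rfl⟩
  have hidx : ∀ i g, bc p (τ i) g = phi p (idx i) g := fun i g =>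
    (phi_eq_bc (idx i) (τ i) (hτ i) (fun g => rfl) (hreg g)).symm
  have hsum : ∀ i, ∑ g, bc p (τ i) g = if idx i = triv then (Fintype.card P : ℂ) else 0 := by
    intro i
    split_ifs with h
    · obtain ⟨h1, h2⟩ := triv_of_trace (τ i) (hτ i) (fun g => congrFun (congrArg Subtype.val h) g)
      rw [Finset.sum_congr rfl fun g _ => bc_one (τ i) h1 (h2 g)]
      simp
    · rw [Finset.sum_congr rfl fun g _ => hidx i g]
      exact sum_phi hM hV hP (idx i) h
  have hL : ∑ g, bc p σ g = (Fintype.card P : ℂ) *
      ((Finset.univ.filter fun i => idx i = triv).card : ℂ) := by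
    rw [Finset.sum_congr rfl fun g _ => hbc g, Finset.sum_comm, Finset.sum_congr rfl fun i _ => hsum i,
      ← Finset.sum_filter, Finset.sum_const, nsmul_eq_mul, mul_comm]
  rw [hL]
  congr 2
  -- the count
  set c : ResidueField V := (Fintype.card P : ResidueField V) with hcdef
  have hkey : ∀ t : ResidueField V, t ^ finrank (ResidueField V) σ.invariants =
      t ^ (Finset.univ.filter fun i => idx i = triv).card := by
    intro t
    have h1 := hdet' (fun h => (if h = 1 then 1 else 0) + (t - 1) * c⁻¹)
    rw [sum_aux3] at h1
    have h2 : LinearMap.det (1 + ((t - 1) * c⁻¹) • ∑ g, σ g) =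
        t ^ finrank (ResidueField V) σ.invariants := by
      refine det_smul_proj _ _ t ?_ ?_
      · intro w hw
        have h3 : ∀ g, σ g w = w := hw
        rw [LinearMap.add_apply, LinearMap.smul_apply, LinearMap.sum_apply,
          Finset.sum_congr rfl fun g _ => h3 g, Finset.sum_const, Finset.card_univ,
          Module.End.one_apply, ← Nat.cast_smul_eq_nsmul (ResidueField V), smul_smul, ← hcdef,
          mul_assoc, inv_mul_cancel₀ hc, mul_one, sub_smul, one_smul]
        abel
      · intro w
        rw [LinearMap.add_apply, Module.End.one_apply, add_sub_cancel_left, LinearMap.smul_apply]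
        refine Submodule.smul_mem _ _ fun g => ?_
        rw [LinearMap.sum_apply, map_sum]
        refine Fintype.sum_equiv (Equiv.mulLeft g) _ _ fun x => ?_
        rw [Equiv.coe_mulLeft, map_mul, Module.End.mul_apply]
    rw [← h2, h1]
    have h4 : ∀ i, LinearMap.det (∑ g, ((if g = 1 then (1 : ResidueField V) else 0) +
        (t - 1) * c⁻¹) • τ i g) = if idx i = triv then t else 1 := by
      intro i
      rw [sum_aux3]
      split_ifs with h
      · obtain ⟨h5, h6⟩ := triv_of_trace (τ i) (hτ i)
          (fun g => congrFun (congrArg Subtype.val h) g)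
        have h7 : (1 : Module.End (ResidueField V) (Fin (n i) → ResidueField V)) +
            ((t - 1) * c⁻¹) • ∑ g, τ i g = t • 1 := by
          rw [Finset.sum_congr rfl fun g _ => h6 g, Finset.sum_const, Finset.card_univ,
            ← Nat.cast_smul_eq_nsmul (ResidueField V), smul_smul, ← hcdef,
            mul_assoc, inv_mul_cancel₀ hc, mul_one, sub_smul, one_smul]
          abel
        rw [h7]
        have h8 : LinearMap.det (t • (1 : Module.End (ResidueField V)
            (Fin (n i) → ResidueField V))) = t ^ n i := by
          rw [LinearMap.det_smul, Module.finrank_fin_fun]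
          have : LinearMap.det (1 : Module.End (ResidueField V)
            (Fin (n i) → ResidueField V)) = 1 := LinearMap.det_id
          rw [this, mul_one]
        rw [h8, h5, pow_one]
      · have h5 : ∑ g, τ i g = 0 := by
          by_contra h6
          obtain ⟨h7, h8⟩ := triv_of_norm_ne (τ i) (hτ i) h6
          apply h
          apply Subtype.ext
          funext g
          change LinearMap.trace (ResidueField V) _ (τ i g) = 1
          rw [h8, LinearMap.trace_one, Module.finrank_fin_fun, h7, Nat.cast_one]
        rw [h5, smul_zero, add_zero]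
        exact LinearMap.det_id
    rw [Finset.prod_congr rfl fun i _ => h4 i, ← Finset.prod_filter, Finset.prod_const]
  have hpoly : (X : (ResidueField V)[X]) ^ finrank (ResidueField V) σ.invariants =
      X ^ (Finset.univ.filter fun i => idx i = triv).card := by
    refine Polynomial.funext fun t => ?_
    rw [Polynomial.eval_pow, Polynomial.eval_pow, Polynomial.eval_X, hkey]
  have := congrArg Polynomial.natDegree hpoly
  rw [Polynomial.natDegree_X_pow, Polynomial.natDegree_X_pow] at this
  exact this.symm

end Cfsg.Agent.H597.BrInv
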