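import Cfsg.Agent.H597.Taketa
import Cfsg.Agent.H597.Degrees
import Cfsg.Agent.S4458
set_option linter.all false

/-!
# Derived length two: some criteria on character degrees
-/

set_option autoImplicit false

namespace Cfsg.Agent.H597.ThreeDegA

open Cfsg
open Cfsg.Agent.Characters.Core Cfsg.Agent.Characters.Clifford Cfsg.Agent.Characters.Linear
open Cfsg.Agent.H597.Base Cfsg.Agent.H597.Degrees Cfsg.Agent.H597.Taketa
open Cfsg.Agent.H597.Broline (indFun_apply_one)
open Cfsg.Agent.Blocks.Basic (charDegree_of_eq irr_one_eq_charDegree charDegree_pos)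
open Subgroup
open scoped commutatorElement ComplexConjugate

universe u
variable {G : Type u} [Group G]

/-- A group all of whose characters are linear. -/
theorem commutator_eq_bot [Finite G] (h : ∀ χ : G → ℂ, IsIrrCharacter G χ → charDegree χ = 1) :
    commutator G = ⊥ := by
  rw [eq_bot_iff, _root_.commutator_def, commutator_le]
  intro a _ b _
  rw [mem_bot, commutatorElement_eq_one_iff_mul_comm]
  exact comm_of_forall_one h a b

/-- At most two character degrees: derived length at most two. -/
theorem derived_two [Finite G] (m : ℕ)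
    (hcd : ∀ χ : G → ℂ, IsIrrCharacter G χ → charDegree χ = 1 ∨ charDegree χ = m) :
    derivedSeries G 2 = ⊥ := by
  classical
  by_cases h : ∀ χ : G → ℂ, IsIrrCharacter G χ → charDegree χ = 1
  · rw [eq_bot_iff, ← commutator_eq_bot h, ← derivedSeries_one]
    exact derivedSeries_antitone G (by norm_num)
  · push Not at h
    obtain ⟨χ, hχ, h1⟩ := h
    have hm : charDegree χ = m := (hcd χ hχ).resolve_left h1
    have h2 := Cfsg.Agent.S4458.result m (fun χ => hcd χ χ.2) ⟨⟨χ, hχ⟩, hm⟩ (hm ▸ h1)
    rw [eq_bot_iff, derivedSeries_succ, derivedSeries_one, commutator_le]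
    intro a ha b hb
    rw [mem_bot, commutatorElement_eq_one_iff_mul_comm]
    exact h2 a ha b hb

/-- The relative version of `derived_two` for a quotient group. -/
theorem derived_two_le [Finite G] (m : ℕ) (M : Subgroup G) [M.Normal]
    (hcd : ∀ χ : G → ℂ, IsIrrCharacter G χ → (∀ x ∈ M, χ x = χ 1) →
      charDegree χ = 1 ∨ charDegree χ = m) :
    derivedSeries G 2 ≤ M := by
  have h1 : derivedSeries (G ⧸ M) 2 = ⊥ := by
    apply derived_two m
    intro χ hχ
    have h2 := hcd (χ ∘ QuotientGroup.mk' M) (isIrr_comp _ (QuotientGroup.mk'_surjective M) hχ)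
      (fun x hx => by
        rw [Function.comp_apply, Function.comp_apply, map_one]
        congr 1
        exact (QuotientGroup.eq_one_iff x).2 hx)
    have h3 : charDegree (χ ∘ QuotientGroup.mk' M) = charDegree χ := by
      rw [Blocks.Basic.charDegree_def, Blocks.Basic.charDegree_def, Function.comp_apply, map_one]
    rwa [h3] at h2
  rw [← map_derivedSeries_eq (QuotientGroup.mk'_surjective M) 2, Subgroup.map_eq_bot_iff,
    QuotientGroup.ker_mk'] at h1
  exact h1

/-- If all nonlinear irreducible characters have degree at least `|G : H|` then `G' ≤ H`. -/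
theorem commutator_le_of_index_le [Finite G] (H : Subgroup G)
    (hK : ∀ ψ : G → ℂ, IsIrrCharacter G ψ → charDegree ψ ≠ 1 → H.index ≤ charDegree ψ) :
    commutator G ≤ H := by
  classical
  have := Fintype.ofFinite G
  have := finite_irr (G := G)
  have := Fintype.ofFinite (IrrCharacter G)
  by_cases hidx : H.index = 1
  · rw [index_eq_one] at hidx
    rw [hidx]; exact le_top
  have h1char : IsCharacter H (fun _ => (1 : ℂ)) := isCharacter_one
  obtain ⟨c, hc, hc'⟩ := CharDeep.CliffordCorr.exists_nat_coeffs_indFun H h1char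
  have hπ : IsCharacter G (indFun H fun _ => (1 : ℂ)) :=
    CharDeep.CliffordCorr.isCharacter_indFun H h1char
  have hπ1 : indFun H (fun _ => (1 : ℂ)) 1 = ((H.index : ℕ) : ℂ) := by
    rw [indFun_apply_one, mul_one]
  have hone : classInner (indFun H fun _ => (1 : ℂ)) (1 : G → ℂ) = 1 := by
    rw [Cfsg.Agent.S0146.result H _ _ (isIrr_isClassFunction isIrr_one)]
    exact classInner_irr_self isIrr_one
  have hlt : ∀ η : IrrCharacter G, c η ≠ 0 → charDegree (η : G → ℂ) = 1 := by
    intro η hη
    have h2 : classInner (indFun H fun _ => (1 : ℂ)) (η : G → ℂ) ≠ 0 := by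
      rw [Cfsg.Agent.S0146.result H _ _ (isIrr_isClassFunction η.2), hc']
      exact_mod_cast hη
    by_contra hne1
    have h3 := degree_le_of_constituent hπ η.2 hπ1 h2
    have heq : charDegree (η : G → ℂ) = H.index := le_antisymm h3 (hK η η.2 hne1)
    have h4 := eq_of_degree_eq hπ η.2 h2 (by
      rw [hπ1, irr_one_eq_charDegree η.2, heq])
    rw [h4] at hone
    have h5 : (η : G → ℂ) = 1 := by
      by_contra hne
      rw [classInner_irr_ne η.2 isIrr_one hne] at hone
      exact zero_ne_one hone
    apply hidx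
    rw [← heq, h5]
    exact charDegree_of_eq (by simp)
  intro k hk
  apply mem_of_indFun_one_eq
  rw [apply_eq_sum hc k, apply_eq_sum hc 1]
  refine Finset.sum_congr rfl fun η _ => ?_
  by_cases h0 : c η = 0
  · rw [h0]; simp
  · rw [commutator_le_ker_of_linear η.2 (hlt η h0) k hk]

/-- If `K ≤ H` is normal then `⁅K, K⁆` is in the kernel of every character induced from a linear
character of `H`. -/
theorem indFun_eq_of_commutator [Fintype G] (H : Subgroup G) (f : H →* ℂˣ) (K : Subgroup G)
    [K.Normal] (hKH : K ≤ H) {k : G} (hk : k ∈ ⁅K, K⁆) :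
    indFun H (fun h => (f h : ℂ)) k = indFun H (fun h => (f h : ℂ)) 1 := by
  classical
  rw [indFun_apply_one, indFun_apply, map_one]
  have h4 : ∀ x : G, extendByZero H (fun h => (f h : ℂ)) (x⁻¹ * k * x) = 1 := by
    intro x
    have hx : x⁻¹ * k * x ∈ ⁅K, K⁆ := by
      have hn : (⁅K, K⁆ : Subgroup G).Normal := inferInstance
      have := hn.conj_mem k hk x⁻¹
      rwa [inv_inv] at this
    have hxH : x⁻¹ * k * x ∈ H := (commutator_le_left K K |>.trans hKH) hx
    rw [extendByZero_of_mem H _ hxH, hom_eq_one_of_commutator f hKH hx hxH]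
    simp
  rw [Finset.sum_congr rfl fun x _ => h4 x, Finset.sum_const, nsmul_eq_mul, Finset.card_univ,
    ← Nat.card_eq_fintype_card, ← H.index_mul_card]
  have h0 : (Nat.card H : ℂ) ≠ 0 := Nat.cast_ne_zero.2 Nat.card_pos.ne'
  push_cast
  field_simp

/-- The intersection of two normal subgroups with nilpotent quotients has nilpotent quotient. -/
theorem isNilpotent_quot_inf (L W : Subgroup G) [L.Normal] [W.Normal]
    (hL : Group.IsNilpotent (G ⧸ L)) (hW : Group.IsNilpotent (G ⧸ W)) :
    Group.IsNilpotent (G ⧸ (L ⊓ W)) := by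
  let φ : G →* (G ⧸ L) × (G ⧸ W) := (QuotientGroup.mk' L).prod (QuotientGroup.mk' W)
  have hker : φ.ker = L ⊓ W := by
    rw [MonoidHom.ker_prod, QuotientGroup.ker_mk', QuotientGroup.ker_mk']
  have h2 : Group.IsNilpotent (G ⧸ φ.ker) := by
    refine Subgroup.isNilpotent_of_ker_le_center (QuotientGroup.kerLift φ) ?_
    rw [(MonoidHom.ker_eq_bot_iff _).2 (QuotientGroup.kerLift_injective φ)]
    exact bot_le
  exact Group.nilpotent_of_mulEquiv (QuotientGroup.quotientMulEquivOfEq hker)

/-- The core of the last case. -/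
theorem core [Finite G] {r : ℕ} (hr : r.Prime) (L W : Subgroup G) [hLn : L.Normal] [hWn : W.Normal]
    (hL : ¬ r ∣ Nat.card L) (hLi : ∃ k, L.index = r ^ k) (hW : ¬ r ∣ W.index)
    (hab : ∀ x ∈ L ⊓ W, ∀ y ∈ L ⊓ W, x * y = y * x)
    (hnil : Group.IsNilpotent (G ⧸ (L ⊓ W))) {a : ℕ} (ha : a ≠ 0)
    (hdeg : ∀ ψ : G → ℂ, IsIrrCharacter G ψ → charDegree ψ = 1 ∨
      ∃ e, charDegree ψ = r ^ a * e ∧ ¬ r ∣ e) : derivedSeries G 2 = ⊥ := by
  classical
  have := Fintype.ofFinite G
  -- `G' ≤ W`
  have hGW : commutator G ≤ W := by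
    have h1 : commutator (G ⧸ W) = ⊥ := by
      apply commutator_eq_bot
      intro χ hχ
      have h2 := hdeg (χ ∘ QuotientGroup.mk' W) (isIrr_comp _ (QuotientGroup.mk'_surjective W) hχ)
      have h3 : charDegree (χ ∘ QuotientGroup.mk' W) = charDegree χ := by
        rw [Blocks.Basic.charDegree_def, Blocks.Basic.charDegree_def, Function.comp_apply, map_one]
      rw [h3] at h2
      rcases h2 with h2 | ⟨e, he, -⟩
      · exact h2
      · exfalso
        apply hW
        rw [index_eq_card]
        refine dvd_trans ?_ (charDegree_dvd_card hχ)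
        rw [he]
        exact Dvd.dvd.mul_right (dvd_pow_self r ha) e
    rw [← derivedSeries_one, ← map_derivedSeries_eq (QuotientGroup.mk'_surjective W) 1,
      Subgroup.map_eq_bot_iff, QuotientGroup.ker_mk', derivedSeries_one] at h1
    exact h1
  rw [eq_bot_iff]
  intro k hk
  rw [mem_bot]
  apply eq_one_of_forall
  intro ψ hψ
  have hk2 : k ∈ ⁅commutator G, commutator G⁆ := by
    rwa [derivedSeries_succ, derivedSeries_one] at hk
  have hk1 : k ∈ commutator G := commutator_le_left _ _ hk2
  rcases hdeg ψ hψ with h1 | ⟨e, he, hre⟩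
  · exact commutator_le_ker_of_linear hψ h1 k hk1
  obtain ⟨S, f, hS, hind⟩ := exists_linear_of_abelian_nilpotent (L ⊓ W) hab hnil hψ
  have hSidx : S.index = r ^ a * e := by
    rw [← he]
    symm
    apply charDegree_of_eq
    rw [← hind, indFun_apply_one, map_one]
    simp
  -- `T = S L`
  have hTidx : (S ⊔ L).index = r ^ a := by
    obtain ⟨n, hn⟩ := hLi
    have h1 : (S ⊔ L).index ∣ r ^ n := hn ▸ index_dvd_of_le le_sup_right
    obtain ⟨j, -, hj⟩ := (Nat.dvd_prime_pow hr).1 h1
    have h2 : S.relIndex (S ⊔ L) * (S ⊔ L).index = S.index := relIndex_mul_index le_sup_left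
    have h3 : ¬ r ∣ S.relIndex (S ⊔ L) := by
      intro hd
      apply hL
      refine hd.trans ?_
      -- `|SL| |S ∩ L| = |S| |L|`
      have h4 : Nat.card S * S.relIndex (S ⊔ L) = Nat.card L * L.relIndex S := by
        rw [← relIndex_bot_left S, relIndex_mul_relIndex _ _ _ bot_le le_sup_left,
          ← relIndex_sup_right S L, ← relIndex_bot_left L,
          relIndex_mul_relIndex _ _ _ bot_le le_sup_right]
      have h5 : Nat.card (L ⊓ S : Subgroup G) * L.relIndex S = Nat.card S := by
        rw [← inf_relIndex_right, ← relIndex_bot_left (L ⊓ S),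
          relIndex_mul_relIndex _ _ _ bot_le inf_le_right, relIndex_bot_left]
      have h6 : 0 < L.relIndex S := Nat.pos_of_ne_zero (by
        intro h0
        rw [h0, mul_zero] at h5
        exact Nat.card_pos.ne h5)
      refine ⟨Nat.card (L ⊓ S : Subgroup G), ?_⟩
      apply Nat.eq_of_mul_eq_mul_right h6
      rw [← h4, ← h5]
      ring
    rw [hj] at h2 ⊢
    rw [hSidx] at h2
    have h7 : r ^ a ∣ r ^ j := by
      have : r ^ a ∣ S.relIndex (S ⊔ L) * r ^ j := h2 ▸ Dvd.intro _ rfl
      exact (Nat.Coprime.pow_left a ((hr.coprime_iff_not_dvd).2 h3)).dvd_of_dvd_mul_left this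
    have h8 : r ^ j ∣ r ^ a := by
      have : r ^ j ∣ r ^ a * e := h2 ▸ Dvd.intro_left _ rfl
      exact (Nat.Coprime.pow_left j ((hr.coprime_iff_not_dvd).2 hre)).dvd_of_dvd_mul_right this
    exact Nat.dvd_antisymm h8 h7
  have hGT : commutator G ≤ S ⊔ L := by
    apply commutator_le_of_index_le
    intro ψ' hψ' hne
    rcases hdeg ψ' hψ' with h1 | ⟨e', he', -⟩
    · exact absurd h1 hne
    · rw [hTidx, he']
      apply Nat.le_mul_of_pos_right
      rcases Nat.eq_zero_or_pos e' with h0 | h0
      · exfalso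
        have := charDegree_pos hψ'
        rw [he', h0, mul_zero] at this
        exact lt_irrefl _ this
      · exact h0
  -- `G' ≤ S`
  have hGS : commutator G ≤ S := by
    intro x hx
    have hxW := hGW hx
    obtain ⟨s, hs, l, hl, rfl⟩ := mem_sup_of_normal_right.1 (hGT hx)
    have hcop : Nat.Coprime W.index L.index := by
      obtain ⟨n, hn⟩ := hLi
      rw [hn]
      exact Nat.Coprime.pow_right n (((hr.coprime_iff_not_dvd).2 hW).symm)
    obtain ⟨e, he1, he2⟩ := Nat.chineseRemainder hcop 0 1
    have h1 : s ^ e ∈ W := by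
      obtain ⟨j, rfl⟩ := (Nat.modEq_zero_iff_dvd).1 he1
      rw [pow_mul]
      exact pow_mem (W.pow_index_mem s) j
    have h2 : s⁻¹ * s ^ e ∈ L := by
      have h3 : (QuotientGroup.mk' L s) ^ e = (QuotientGroup.mk' L s) ^ 1 := by
        apply pow_eq_pow_iff_modEq.2
        refine Nat.ModEq.of_dvd ?_ he2
        rw [index_eq_card]
        exact orderOf_dvd_natCard _
      rw [pow_one, ← map_pow] at h3
      exact QuotientGroup.eq.1 h3.symm
    have h3 : s * l = s ^ e * ((s⁻¹ * s ^ e)⁻¹ * l) := by group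
    have h4 : (s⁻¹ * s ^ e)⁻¹ * l ∈ L := mul_mem (inv_mem h2) hl
    have h5 : (s⁻¹ * s ^ e)⁻¹ * l ∈ W := by
      rw [h3] at hxW
      exact (W.mul_mem_cancel_left h1).1 hxW
    rw [h3]
    exact mul_mem (pow_mem hs e) (hS ⟨h4, h5⟩)
  rw [← hind]
  exact indFun_eq_of_commutator S f (commutator G) hGS hk2

end Cfsg.Agent.H597.ThreeDegA
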